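import Cfsg.Agent.Lib.SpiderRel.DataIDefs
import Cfsg.Agent.Lib.SpiderRel.DataIFactsLLL
import Cfsg.Agent.Lib.SpiderRel.DataIFactsLLR
import Cfsg.Agent.Lib.SpiderRel.DataIFactsLRL
import Cfsg.Agent.Lib.SpiderRel.DataIFactsLRR
import Cfsg.Agent.Lib.SpiderRel.DataIFactsRLL
import Cfsg.Agent.Lib.SpiderRel.DataIFactsRLR
import Cfsg.Agent.Lib.SpiderRel.DataIFactsRRL
import Cfsg.Agent.Lib.SpiderRel.DataIFactsRRR
import Cfsg.Agent.Lib.SpiderRel.DataIRefsLL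
import Cfsg.Agent.Lib.SpiderRel.DataIRefsLR
import Cfsg.Agent.Lib.SpiderRel.DataIRefsRL
import Cfsg.Agent.Lib.SpiderRel.DataIRefsRR
import Cfsg.Agent.Lib.SpiderRel.DataITabL
import Cfsg.Agent.Lib.SpiderRel.DataITabR
import Cfsg.Agent.Lib.SpiderRel.DataINd
import Cfsg.Agent.Lib.SpiderRel.DataIEdgeL
import Cfsg.Agent.Lib.SpiderRel.DataIEdgeR
import Cfsg.Agent.Lib.SpiderRel.DataIImg

/-!
Coset enumeration data: 28160 cosets, 39107 nodes, 182732 facts.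
-/

set_option autoImplicit false
set_option linter.style.longLine false

namespace CfsgLib.SpiderRel
open CfsgLib.CosetEnum

/-- the certificate -/
def certI : Cert where
  K := 9
  invs := [0, 1, 2, 3, 4, 5, 6, 7, 8]
  rels := [[0, 0],
    [0, 1, 0, 1, 0, 1],
    [0, 2, 0, 2],
    [0, 3, 0, 3],
    [0, 4, 0, 4],
    [0, 5, 0, 5],
    [0, 6, 0, 6, 0, 6],
    [0, 7, 0, 7],
    [0, 8, 0, 8],
    [1, 1],
    [1, 2, 1, 2, 1, 2],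
    [1, 3, 1, 3],
    [1, 4, 1, 4, 1, 4],
    [1, 5, 1, 5],
    [1, 6, 1, 6],
    [1, 7, 1, 7],
    [1, 8, 1, 8],
    [2, 2],
    [2, 3, 2, 3, 2, 3],
    [2, 4, 2, 4],
    [2, 5, 2, 5],
    [2, 6, 2, 6],
    [2, 7, 2, 7],
    [2, 8, 2, 8],
    [3, 3],
    [3, 4, 3, 4],
    [3, 5, 3, 5],
    [3, 6, 3, 6],
    [3, 7, 3, 7, 3, 7],
    [3, 8, 3, 8],
    [4, 4],
    [4, 5, 4, 5, 4, 5],
    [4, 6, 4, 6],
    [4, 7, 4, 7],
    [4, 8, 4, 8],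
    [5, 5],
    [5, 6, 5, 6],
    [5, 7, 5, 7],
    [5, 8, 5, 8, 5, 8],
    [6, 6],
    [6, 7, 6, 7],
    [6, 8, 6, 8],
    [7, 7],
    [7, 8, 7, 8],
    [8, 8],
    [1, 2, 3, 1, 4, 5, 1, 0, 6, 1, 2, 3, 1, 4, 5, 1, 0, 6, 1, 2, 3, 1, 4, 5, 1, 0, 6, 1, 2, 3, 1, 4, 5, 1, 0, 6, 1, 2, 3, 1, 4, 5, 1, 0, 6, 1, 2, 3, 1, 4, 5, 1, 0, 6, 1, 2, 3, 1, 4, 5, 1, 0, 6, 1, 2, 3, 1, 4, 5, 1, 0, 6, 1, 2, 3, 1, 4, 5, 1, 0, 6, 1, 2, 3, 1, 4, 5, 1, 0, 6]]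
  subs := [[0],
    [1],
    [2],
    [3],
    [4],
    [5],
    [6],
    [7]]
  N := 28160
  M := 39107
  F := 182732
  defs := certIDefs
  facts := (.node (.node (.node certIFactsLLL certIFactsLLR) (.node certIFactsLRL certIFactsLRR)) (.node (.node certIFactsRLL certIFactsRLR) (.node certIFactsRRL certIFactsRRR)))
  refs := (.node (.node certIRefsLL certIRefsLR) (.node certIRefsRL certIRefsRR))
  tab := (.node certITabL certITabR)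
  nd := certINd
  edge := (.node certIEdgeL certIEdgeR)
  img := certIImg

end CfsgLib.SpiderRel
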