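import Cfsg.Agent.Lib.CosetEnum.Blocks
import Cfsg.Agent.Lib.SpiderRel.CheckIStep0
import Cfsg.Agent.Lib.SpiderRel.CheckIStep1
import Cfsg.Agent.Lib.SpiderRel.CheckIStep2
import Cfsg.Agent.Lib.SpiderRel.CheckIStep3
import Cfsg.Agent.Lib.SpiderRel.CheckIStep4
import Cfsg.Agent.Lib.SpiderRel.CheckIStep5
import Cfsg.Agent.Lib.SpiderRel.CheckIStep6
import Cfsg.Agent.Lib.SpiderRel.CheckIStep7
import Cfsg.Agent.Lib.SpiderRel.CheckIStep8
import Cfsg.Agent.Lib.SpiderRel.CheckIStep9
import Cfsg.Agent.Lib.SpiderRel.CheckIStep10
import Cfsg.Agent.Lib.SpiderRel.CheckIStep11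
import Cfsg.Agent.Lib.SpiderRel.CheckIStep12
import Cfsg.Agent.Lib.SpiderRel.CheckIStep13
import Cfsg.Agent.Lib.SpiderRel.CheckIStep14
import Cfsg.Agent.Lib.SpiderRel.CheckIStep15
import Cfsg.Agent.Lib.SpiderRel.CheckIStep16
import Cfsg.Agent.Lib.SpiderRel.CheckIStep17
import Cfsg.Agent.Lib.SpiderRel.CheckIStep18
import Cfsg.Agent.Lib.SpiderRel.CheckIStep19
import Cfsg.Agent.Lib.SpiderRel.CheckIStep20
import Cfsg.Agent.Lib.SpiderRel.CheckIStep21
import Cfsg.Agent.Lib.SpiderRel.CheckIStep22
import Cfsg.Agent.Lib.SpiderRel.CheckIStep23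
import Cfsg.Agent.Lib.SpiderRel.CheckIStep24
import Cfsg.Agent.Lib.SpiderRel.CheckIStep25
import Cfsg.Agent.Lib.SpiderRel.CheckIStep26
import Cfsg.Agent.Lib.SpiderRel.CheckIStep27
import Cfsg.Agent.Lib.SpiderRel.CheckIStep28
import Cfsg.Agent.Lib.SpiderRel.CheckIStep29
import Cfsg.Agent.Lib.SpiderRel.CheckIStep30
import Cfsg.Agent.Lib.SpiderRel.CheckIStep31
import Cfsg.Agent.Lib.SpiderRel.CheckIStep32
import Cfsg.Agent.Lib.SpiderRel.CheckIStep33
import Cfsg.Agent.Lib.SpiderRel.CheckIStep34
import Cfsg.Agent.Lib.SpiderRel.CheckIStep35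
import Cfsg.Agent.Lib.SpiderRel.CheckIStep36
import Cfsg.Agent.Lib.SpiderRel.CheckIStep37
import Cfsg.Agent.Lib.SpiderRel.CheckIStep38
import Cfsg.Agent.Lib.SpiderRel.CheckIStep39
import Cfsg.Agent.Lib.SpiderRel.CheckIStep40
import Cfsg.Agent.Lib.SpiderRel.CheckIStep41
import Cfsg.Agent.Lib.SpiderRel.CheckIStep42
import Cfsg.Agent.Lib.SpiderRel.CheckIStep43
import Cfsg.Agent.Lib.SpiderRel.CheckIStep44
import Cfsg.Agent.Lib.SpiderRel.CheckIEntry0
import Cfsg.Agent.Lib.SpiderRel.CheckIEntry1
import Cfsg.Agent.Lib.SpiderRel.CheckIEntry2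
import Cfsg.Agent.Lib.SpiderRel.CheckIEntry3
import Cfsg.Agent.Lib.SpiderRel.CheckIEntry4
import Cfsg.Agent.Lib.SpiderRel.CheckIEntry5
import Cfsg.Agent.Lib.SpiderRel.CheckIEntry6
import Cfsg.Agent.Lib.SpiderRel.CheckIAct0
import Cfsg.Agent.Lib.SpiderRel.CheckIAct4
import Cfsg.Agent.Lib.SpiderRel.CheckIAct8
import Cfsg.Agent.Lib.SpiderRel.CheckIAct12
import Cfsg.Agent.Lib.SpiderRel.CheckIAct16
import Cfsg.Agent.Lib.SpiderRel.CheckIAct20
import Cfsg.Agent.Lib.SpiderRel.CheckIAct24
import Cfsg.Agent.Lib.SpiderRel.CheckINdImg0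
import Cfsg.Agent.Lib.SpiderRel.CheckINdImg1
import Cfsg.Agent.Lib.SpiderRel.CheckINdImg2
import Cfsg.Agent.Lib.SpiderRel.CheckINdImg3
import Cfsg.Agent.Lib.SpiderRel.CheckINdImg4
import Cfsg.Agent.Lib.SpiderRel.CheckINdImg5
import Cfsg.Agent.Lib.SpiderRel.CheckINdImg6
import Cfsg.Agent.Lib.SpiderRel.CheckINdImg7
import Cfsg.Agent.Lib.SpiderRel.CheckINdImg8
import Cfsg.Agent.Lib.SpiderRel.CheckINdImg9
import Cfsg.Agent.Lib.SpiderRel.CheckINdImg10
import Cfsg.Agent.Lib.SpiderRel.CheckINdImg11
import Cfsg.Agent.Lib.SpiderRel.CheckINdImg12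
import Cfsg.Agent.Lib.SpiderRel.CheckINdImg13
import Cfsg.Agent.Lib.SpiderRel.CheckINdImg14
import Cfsg.Agent.Lib.SpiderRel.CheckINdImg15
import Cfsg.Agent.Lib.SpiderRel.CheckINdImg16
import Cfsg.Agent.Lib.SpiderRel.CheckINdImg17
import Cfsg.Agent.Lib.SpiderRel.CheckINdImg18
import Cfsg.Agent.Lib.SpiderRel.CheckINdImg19
import Cfsg.Agent.Lib.SpiderRel.CheckINdImg20
import Cfsg.Agent.Lib.SpiderRel.CheckINdImg21
import Cfsg.Agent.Lib.SpiderRel.CheckINdImg22
import Cfsg.Agent.Lib.SpiderRel.CheckINdImg23
import Cfsg.Agent.Lib.SpiderRel.CheckINdImg24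
import Cfsg.Agent.Lib.SpiderRel.CheckINdImg25
import Cfsg.Agent.Lib.SpiderRel.CheckINdImg26
import Cfsg.Agent.Lib.SpiderRel.CheckINdImg27
import Cfsg.Agent.Lib.SpiderRel.CheckIImg0
import Cfsg.Agent.Lib.SpiderRel.CheckIImg1
import Cfsg.Agent.Lib.SpiderRel.CheckIImg2
import Cfsg.Agent.Lib.SpiderRel.CheckIImg3
import Cfsg.Agent.Lib.SpiderRel.CheckIImg4

/-!
Kernel checks of coset enumeration data.
-/

set_option autoImplicit false

namespace CfsgLib.SpiderRel
open CfsgLib.CosetEnum

theorem certI_complete : certI.Complete :=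
  Cert.complete_of_blocks₂ _ (k := 12) (n := 45) (k₂ := 12) (n₂ := 7)
    (by decide +kernel)
    (fun j hj => by
      match j, hj with
      | 0, _ => exact certI_step0
      | 1, _ => exact certI_step1
      | 2, _ => exact certI_step2
      | 3, _ => exact certI_step3
      | 4, _ => exact certI_step4
      | 5, _ => exact certI_step5
      | 6, _ => exact certI_step6
      | 7, _ => exact certI_step7
      | 8, _ => exact certI_step8
      | 9, _ => exact certI_step9
      | 10, _ => exact certI_step10
      | 11, _ => exact certI_step11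
      | 12, _ => exact certI_step12
      | 13, _ => exact certI_step13
      | 14, _ => exact certI_step14
      | 15, _ => exact certI_step15
      | 16, _ => exact certI_step16
      | 17, _ => exact certI_step17
      | 18, _ => exact certI_step18
      | 19, _ => exact certI_step19
      | 20, _ => exact certI_step20
      | 21, _ => exact certI_step21
      | 22, _ => exact certI_step22
      | 23, _ => exact certI_step23
      | 24, _ => exact certI_step24
      | 25, _ => exact certI_step25
      | 26, _ => exact certI_step26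
      | 27, _ => exact certI_step27
      | 28, _ => exact certI_step28
      | 29, _ => exact certI_step29
      | 30, _ => exact certI_step30
      | 31, _ => exact certI_step31
      | 32, _ => exact certI_step32
      | 33, _ => exact certI_step33
      | 34, _ => exact certI_step34
      | 35, _ => exact certI_step35
      | 36, _ => exact certI_step36
      | 37, _ => exact certI_step37
      | 38, _ => exact certI_step38
      | 39, _ => exact certI_step39
      | 40, _ => exact certI_step40
      | 41, _ => exact certI_step41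
      | 42, _ => exact certI_step42
      | 43, _ => exact certI_step43
      | 44, _ => exact certI_step44
      | r + 45, h => omega)
    (by decide +kernel)
    (fun j hj => by
      match j, hj with
      | 0, _ => exact certI_entry0
      | 1, _ => exact certI_entry1
      | 2, _ => exact certI_entry2
      | 3, _ => exact certI_entry3
      | 4, _ => exact certI_entry4
      | 5, _ => exact certI_entry5
      | 6, _ => exact certI_entry6
      | r + 7, h => omega)
    (by decide +kernel)

theorem certI_action : certI.IsAction :=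
  Cert.isAction_of_blocks _ (k₁ := 13) (n₁ := 5) (k₂ := 10) (n₂ := 28)
    (by decide +kernel) (by decide +kernel)
    (fun j hj => by
      match j, hj with
      | 0, _ => exact certI_act0
      | 1, _ => exact certI_act1
      | 2, _ => exact certI_act2
      | 3, _ => exact certI_act3
      | 4, _ => exact certI_act4
      | 5, _ => exact certI_act5
      | 6, _ => exact certI_act6
      | 7, _ => exact certI_act7
      | 8, _ => exact certI_act8
      | 9, _ => exact certI_act9
      | 10, _ => exact certI_act10
      | 11, _ => exact certI_act11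
      | 12, _ => exact certI_act12
      | 13, _ => exact certI_act13
      | 14, _ => exact certI_act14
      | 15, _ => exact certI_act15
      | 16, _ => exact certI_act16
      | 17, _ => exact certI_act17
      | 18, _ => exact certI_act18
      | 19, _ => exact certI_act19
      | 20, _ => exact certI_act20
      | 21, _ => exact certI_act21
      | 22, _ => exact certI_act22
      | 23, _ => exact certI_act23
      | 24, _ => exact certI_act24
      | 25, _ => exact certI_act25
      | 26, _ => exact certI_act26
      | 27, _ => exact certI_act27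
      | r + 28, h => omega)
    (fun j hj => by
      match j, hj with
      | 0, _ => exact certI_ndimg0
      | 1, _ => exact certI_ndimg1
      | 2, _ => exact certI_ndimg2
      | 3, _ => exact certI_ndimg3
      | 4, _ => exact certI_ndimg4
      | 5, _ => exact certI_ndimg5
      | 6, _ => exact certI_ndimg6
      | 7, _ => exact certI_ndimg7
      | 8, _ => exact certI_ndimg8
      | 9, _ => exact certI_ndimg9
      | 10, _ => exact certI_ndimg10
      | 11, _ => exact certI_ndimg11
      | 12, _ => exact certI_ndimg12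
      | 13, _ => exact certI_ndimg13
      | 14, _ => exact certI_ndimg14
      | 15, _ => exact certI_ndimg15
      | 16, _ => exact certI_ndimg16
      | 17, _ => exact certI_ndimg17
      | 18, _ => exact certI_ndimg18
      | 19, _ => exact certI_ndimg19
      | 20, _ => exact certI_ndimg20
      | 21, _ => exact certI_ndimg21
      | 22, _ => exact certI_ndimg22
      | 23, _ => exact certI_ndimg23
      | 24, _ => exact certI_ndimg24
      | 25, _ => exact certI_ndimg25
      | 26, _ => exact certI_ndimg26
      | 27, _ => exact certI_ndimg27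
      | r + 28, h => omega)
    (by decide +kernel)
    (fun j hj => by
      match j, hj with
      | 0, _ => exact certI_img0
      | 1, _ => exact certI_img1
      | 2, _ => exact certI_img2
      | 3, _ => exact certI_img3
      | 4, _ => exact certI_img4
      | r + 5, h => omega)
    (by decide +kernel)

end CfsgLib.SpiderRel
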