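import Cfsg.Agent.Lib.SpiderRel.DataJDefs
import Cfsg.Agent.Lib.SpiderRel.DataJFactsLLL
import Cfsg.Agent.Lib.SpiderRel.DataJFactsLLR
import Cfsg.Agent.Lib.SpiderRel.DataJFactsLRL
import Cfsg.Agent.Lib.SpiderRel.DataJFactsLRR
import Cfsg.Agent.Lib.SpiderRel.DataJFactsRLL
import Cfsg.Agent.Lib.SpiderRel.DataJFactsRLR
import Cfsg.Agent.Lib.SpiderRel.DataJFactsRRL
import Cfsg.Agent.Lib.SpiderRel.DataJFactsRRR
import Cfsg.Agent.Lib.SpiderRel.DataJRefsLL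
import Cfsg.Agent.Lib.SpiderRel.DataJRefsLR
import Cfsg.Agent.Lib.SpiderRel.DataJRefsRL
import Cfsg.Agent.Lib.SpiderRel.DataJRefsRR
import Cfsg.Agent.Lib.SpiderRel.DataJTabL
import Cfsg.Agent.Lib.SpiderRel.DataJTabR
import Cfsg.Agent.Lib.SpiderRel.DataJNd
import Cfsg.Agent.Lib.SpiderRel.DataJEdgeL
import Cfsg.Agent.Lib.SpiderRel.DataJEdgeR
import Cfsg.Agent.Lib.SpiderRel.DataJImg

/-!
Coset enumeration data: 31671 cosets, 52251 nodes, 256272 facts.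
-/

set_option autoImplicit false
set_option linter.style.longLine false

namespace CfsgLib.SpiderRel
open CfsgLib.CosetEnum

/-- the certificate -/
def certJ : Cert where
  K := 10
  invs := [0, 1, 2, 3, 4, 5, 6, 7, 8, 9]
  rels := [[0, 0],
    [0, 1, 0, 1, 0, 1],
    [0, 2, 0, 2],
    [0, 3, 0, 3],
    [0, 4, 0, 4],
    [0, 5, 0, 5],
    [0, 6, 0, 6, 0, 6],
    [0, 7, 0, 7],
    [0, 8, 0, 8],
    [0, 9, 0, 9],
    [1, 1],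
    [1, 2, 1, 2, 1, 2],
    [1, 3, 1, 3],
    [1, 4, 1, 4, 1, 4],
    [1, 5, 1, 5],
    [1, 6, 1, 6],
    [1, 7, 1, 7],
    [1, 8, 1, 8],
    [1, 9, 1, 9],
    [2, 2],
    [2, 3, 2, 3, 2, 3],
    [2, 4, 2, 4],
    [2, 5, 2, 5],
    [2, 6, 2, 6],
    [2, 7, 2, 7],
    [2, 8, 2, 8],
    [2, 9, 2, 9],
    [3, 3],
    [3, 4, 3, 4],
    [3, 5, 3, 5],
    [3, 6, 3, 6],
    [3, 7, 3, 7, 3, 7],
    [3, 8, 3, 8],
    [3, 9, 3, 9],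
    [4, 4],
    [4, 5, 4, 5, 4, 5],
    [4, 6, 4, 6],
    [4, 7, 4, 7],
    [4, 8, 4, 8],
    [4, 9, 4, 9],
    [5, 5],
    [5, 6, 5, 6],
    [5, 7, 5, 7],
    [5, 8, 5, 8, 5, 8],
    [5, 9, 5, 9],
    [6, 6],
    [6, 7, 6, 7],
    [6, 8, 6, 8],
    [6, 9, 6, 9],
    [7, 7],
    [7, 8, 7, 8],
    [7, 9, 7, 9, 7, 9],
    [8, 8],
    [8, 9, 8, 9],
    [9, 9],
    [1, 2, 3, 1, 4, 5, 1, 0, 6, 1, 2, 3, 1, 4, 5, 1, 0, 6, 1, 2, 3, 1, 4, 5, 1, 0, 6, 1, 2, 3, 1, 4, 5, 1, 0, 6, 1, 2, 3, 1, 4, 5, 1, 0, 6, 1, 2, 3, 1, 4, 5, 1, 0, 6, 1, 2, 3, 1, 4, 5, 1, 0, 6, 1, 2, 3, 1, 4, 5, 1, 0, 6, 1, 2, 3, 1, 4, 5, 1, 0, 6, 1, 2, 3, 1, 4, 5, 1, 0, 6]]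
  subs := [[0],
    [1],
    [2],
    [3],
    [4],
    [5],
    [6],
    [7],
    [8]]
  N := 31671
  M := 52251
  F := 256272
  defs := certJDefs
  facts := (.node (.node (.node certJFactsLLL certJFactsLLR) (.node certJFactsLRL certJFactsLRR)) (.node (.node certJFactsRLL certJFactsRLR) (.node certJFactsRRL certJFactsRRR)))
  refs := (.node (.node certJRefsLL certJRefsLR) (.node certJRefsRL certJRefsRR))
  tab := (.node certJTabL certJTabR)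
  nd := certJNd
  edge := (.node certJEdgeL certJEdgeR)
  img := certJImg

end CfsgLib.SpiderRel
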