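import Cfsg.Agent.Lib.CosetEnum.Chunks
import Cfsg.Agent.Lib.SpiderRel.DataJ

/-!
Kernel check of a block of a table.
-/

set_option autoImplicit false
set_option Elab.async false

namespace CfsgLib.SpiderRel
open CfsgLib.CosetEnum

theorem certJ_step0 : allUp certJ.stepOK' 12 (0 * 2 ^ 12) = true := by decide +kernel

end CfsgLib.SpiderRel
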