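import Cfsg.Agent.Lib.CosetEnum.Blocks
import Cfsg.Agent.Lib.SpiderRel.CheckJStep0
import Cfsg.Agent.Lib.SpiderRel.CheckJStep1
import Cfsg.Agent.Lib.SpiderRel.CheckJStep2
import Cfsg.Agent.Lib.SpiderRel.CheckJStep3
import Cfsg.Agent.Lib.SpiderRel.CheckJStep4
import Cfsg.Agent.Lib.SpiderRel.CheckJStep5
import Cfsg.Agent.Lib.SpiderRel.CheckJStep6
import Cfsg.Agent.Lib.SpiderRel.CheckJStep7
import Cfsg.Agent.Lib.SpiderRel.CheckJStep8
import Cfsg.Agent.Lib.SpiderRel.CheckJStep9
import Cfsg.Agent.Lib.SpiderRel.CheckJStep10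
import Cfsg.Agent.Lib.SpiderRel.CheckJStep11
import Cfsg.Agent.Lib.SpiderRel.CheckJStep12
import Cfsg.Agent.Lib.SpiderRel.CheckJStep13
import Cfsg.Agent.Lib.SpiderRel.CheckJStep14
import Cfsg.Agent.Lib.SpiderRel.CheckJStep15
import Cfsg.Agent.Lib.SpiderRel.CheckJStep16
import Cfsg.Agent.Lib.SpiderRel.CheckJStep17
import Cfsg.Agent.Lib.SpiderRel.CheckJStep18
import Cfsg.Agent.Lib.SpiderRel.CheckJStep19
import Cfsg.Agent.Lib.SpiderRel.CheckJStep20
import Cfsg.Agent.Lib.SpiderRel.CheckJStep21
import Cfsg.Agent.Lib.SpiderRel.CheckJStep22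
import Cfsg.Agent.Lib.SpiderRel.CheckJStep23
import Cfsg.Agent.Lib.SpiderRel.CheckJStep24
import Cfsg.Agent.Lib.SpiderRel.CheckJStep25
import Cfsg.Agent.Lib.SpiderRel.CheckJStep26
import Cfsg.Agent.Lib.SpiderRel.CheckJStep27
import Cfsg.Agent.Lib.SpiderRel.CheckJStep28
import Cfsg.Agent.Lib.SpiderRel.CheckJStep29
import Cfsg.Agent.Lib.SpiderRel.CheckJStep30
import Cfsg.Agent.Lib.SpiderRel.CheckJStep31
import Cfsg.Agent.Lib.SpiderRel.CheckJStep32
import Cfsg.Agent.Lib.SpiderRel.CheckJStep33
import Cfsg.Agent.Lib.SpiderRel.CheckJStep34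
import Cfsg.Agent.Lib.SpiderRel.CheckJStep35
import Cfsg.Agent.Lib.SpiderRel.CheckJStep36
import Cfsg.Agent.Lib.SpiderRel.CheckJStep37
import Cfsg.Agent.Lib.SpiderRel.CheckJStep38
import Cfsg.Agent.Lib.SpiderRel.CheckJStep39
import Cfsg.Agent.Lib.SpiderRel.CheckJStep40
import Cfsg.Agent.Lib.SpiderRel.CheckJStep41
import Cfsg.Agent.Lib.SpiderRel.CheckJStep42
import Cfsg.Agent.Lib.SpiderRel.CheckJStep43
import Cfsg.Agent.Lib.SpiderRel.CheckJStep44
import Cfsg.Agent.Lib.SpiderRel.CheckJStep45
import Cfsg.Agent.Lib.SpiderRel.CheckJStep46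
import Cfsg.Agent.Lib.SpiderRel.CheckJStep47
import Cfsg.Agent.Lib.SpiderRel.CheckJStep48
import Cfsg.Agent.Lib.SpiderRel.CheckJStep49
import Cfsg.Agent.Lib.SpiderRel.CheckJStep50
import Cfsg.Agent.Lib.SpiderRel.CheckJStep51
import Cfsg.Agent.Lib.SpiderRel.CheckJStep52
import Cfsg.Agent.Lib.SpiderRel.CheckJStep53
import Cfsg.Agent.Lib.SpiderRel.CheckJStep54
import Cfsg.Agent.Lib.SpiderRel.CheckJStep55
import Cfsg.Agent.Lib.SpiderRel.CheckJStep56
import Cfsg.Agent.Lib.SpiderRel.CheckJStep57
import Cfsg.Agent.Lib.SpiderRel.CheckJStep58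
import Cfsg.Agent.Lib.SpiderRel.CheckJStep59
import Cfsg.Agent.Lib.SpiderRel.CheckJStep60
import Cfsg.Agent.Lib.SpiderRel.CheckJStep61
import Cfsg.Agent.Lib.SpiderRel.CheckJStep62
import Cfsg.Agent.Lib.SpiderRel.CheckJEntry0
import Cfsg.Agent.Lib.SpiderRel.CheckJEntry1
import Cfsg.Agent.Lib.SpiderRel.CheckJEntry2
import Cfsg.Agent.Lib.SpiderRel.CheckJEntry3
import Cfsg.Agent.Lib.SpiderRel.CheckJEntry4
import Cfsg.Agent.Lib.SpiderRel.CheckJEntry5
import Cfsg.Agent.Lib.SpiderRel.CheckJEntry6
import Cfsg.Agent.Lib.SpiderRel.CheckJEntry7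

/-!
Kernel checks of coset enumeration data.
-/

set_option autoImplicit false

namespace CfsgLib.SpiderRel
open CfsgLib.CosetEnum

theorem certJ_complete : certJ.Complete :=
  Cert.complete_of_blocks₂ _ (k := 12) (n := 63) (k₂ := 12) (n₂ := 8)
    (by decide +kernel)
    (fun j hj => by
      match j, hj with
      | 0, _ => exact certJ_step0
      | 1, _ => exact certJ_step1
      | 2, _ => exact certJ_step2
      | 3, _ => exact certJ_step3
      | 4, _ => exact certJ_step4
      | 5, _ => exact certJ_step5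
      | 6, _ => exact certJ_step6
      | 7, _ => exact certJ_step7
      | 8, _ => exact certJ_step8
      | 9, _ => exact certJ_step9
      | 10, _ => exact certJ_step10
      | 11, _ => exact certJ_step11
      | 12, _ => exact certJ_step12
      | 13, _ => exact certJ_step13
      | 14, _ => exact certJ_step14
      | 15, _ => exact certJ_step15
      | 16, _ => exact certJ_step16
      | 17, _ => exact certJ_step17
      | 18, _ => exact certJ_step18
      | 19, _ => exact certJ_step19
      | 20, _ => exact certJ_step20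
      | 21, _ => exact certJ_step21
      | 22, _ => exact certJ_step22
      | 23, _ => exact certJ_step23
      | 24, _ => exact certJ_step24
      | 25, _ => exact certJ_step25
      | 26, _ => exact certJ_step26
      | 27, _ => exact certJ_step27
      | 28, _ => exact certJ_step28
      | 29, _ => exact certJ_step29
      | 30, _ => exact certJ_step30
      | 31, _ => exact certJ_step31
      | 32, _ => exact certJ_step32
      | 33, _ => exact certJ_step33
      | 34, _ => exact certJ_step34
      | 35, _ => exact certJ_step35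
      | 36, _ => exact certJ_step36
      | 37, _ => exact certJ_step37
      | 38, _ => exact certJ_step38
      | 39, _ => exact certJ_step39
      | 40, _ => exact certJ_step40
      | 41, _ => exact certJ_step41
      | 42, _ => exact certJ_step42
      | 43, _ => exact certJ_step43
      | 44, _ => exact certJ_step44
      | 45, _ => exact certJ_step45
      | 46, _ => exact certJ_step46
      | 47, _ => exact certJ_step47
      | 48, _ => exact certJ_step48
      | 49, _ => exact certJ_step49
      | 50, _ => exact certJ_step50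
      | 51, _ => exact certJ_step51
      | 52, _ => exact certJ_step52
      | 53, _ => exact certJ_step53
      | 54, _ => exact certJ_step54
      | 55, _ => exact certJ_step55
      | 56, _ => exact certJ_step56
      | 57, _ => exact certJ_step57
      | 58, _ => exact certJ_step58
      | 59, _ => exact certJ_step59
      | 60, _ => exact certJ_step60
      | 61, _ => exact certJ_step61
      | 62, _ => exact certJ_step62
      | r + 63, h => omega)
    (by decide +kernel)
    (fun j hj => by
      match j, hj with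
      | 0, _ => exact certJ_entry0
      | 1, _ => exact certJ_entry1
      | 2, _ => exact certJ_entry2
      | 3, _ => exact certJ_entry3
      | 4, _ => exact certJ_entry4
      | 5, _ => exact certJ_entry5
      | 6, _ => exact certJ_entry6
      | 7, _ => exact certJ_entry7
      | r + 8, h => omega)
    (by decide +kernel)

end CfsgLib.SpiderRel
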