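import Cfsg.Agent.Lib.SpiderRel.DataLDefs
import Cfsg.Agent.Lib.SpiderRel.DataLFactsLLL
import Cfsg.Agent.Lib.SpiderRel.DataLFactsLLR
import Cfsg.Agent.Lib.SpiderRel.DataLFactsLRL
import Cfsg.Agent.Lib.SpiderRel.DataLFactsLRR
import Cfsg.Agent.Lib.SpiderRel.DataLFactsRLL
import Cfsg.Agent.Lib.SpiderRel.DataLFactsRLR
import Cfsg.Agent.Lib.SpiderRel.DataLFactsRRL
import Cfsg.Agent.Lib.SpiderRel.DataLFactsRRR
import Cfsg.Agent.Lib.SpiderRel.DataLRefsLL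
import Cfsg.Agent.Lib.SpiderRel.DataLRefsLR
import Cfsg.Agent.Lib.SpiderRel.DataLRefsRL
import Cfsg.Agent.Lib.SpiderRel.DataLRefsRR
import Cfsg.Agent.Lib.SpiderRel.DataLTabL
import Cfsg.Agent.Lib.SpiderRel.DataLTabR
import Cfsg.Agent.Lib.SpiderRel.DataLNd
import Cfsg.Agent.Lib.SpiderRel.DataLEdgeL
import Cfsg.Agent.Lib.SpiderRel.DataLEdgeR
import Cfsg.Agent.Lib.SpiderRel.DataLImg

/-!
Coset enumeration data: 31671 cosets, 32363 nodes, 196193 facts.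
-/

set_option autoImplicit false
set_option linter.style.longLine false

namespace CfsgLib.SpiderRel
open CfsgLib.CosetEnum

/-- the certificate -/
def certL : Cert where
  K := 11
  invs := [0, 1, 2, 3, 4, 5, 6, 7, 8, 9, 10]
  rels := [[0, 0],
    [0, 1, 0, 1, 0, 1],
    [0, 2, 0, 2],
    [0, 3, 0, 3],
    [0, 4, 0, 4],
    [0, 5, 0, 5],
    [0, 6, 0, 6, 0, 6],
    [0, 7, 0, 7],
    [0, 8, 0, 8],
    [0, 9, 0, 9],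
    [0, 10, 0, 10],
    [1, 1],
    [1, 2, 1, 2, 1, 2],
    [1, 3, 1, 3],
    [1, 4, 1, 4, 1, 4],
    [1, 5, 1, 5],
    [1, 6, 1, 6],
    [1, 7, 1, 7],
    [1, 8, 1, 8],
    [1, 9, 1, 9],
    [1, 10, 1, 10],
    [2, 2],
    [2, 3, 2, 3, 2, 3],
    [2, 4, 2, 4],
    [2, 5, 2, 5],
    [2, 6, 2, 6],
    [2, 7, 2, 7],
    [2, 8, 2, 8],
    [2, 9, 2, 9],
    [2, 10, 2, 10],
    [3, 3],
    [3, 4, 3, 4],
    [3, 5, 3, 5],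
    [3, 6, 3, 6],
    [3, 7, 3, 7, 3, 7],
    [3, 8, 3, 8],
    [3, 9, 3, 9],
    [3, 10, 3, 10],
    [4, 4],
    [4, 5, 4, 5, 4, 5],
    [4, 6, 4, 6],
    [4, 7, 4, 7],
    [4, 8, 4, 8],
    [4, 9, 4, 9],
    [4, 10, 4, 10],
    [5, 5],
    [5, 6, 5, 6],
    [5, 7, 5, 7],
    [5, 8, 5, 8, 5, 8],
    [5, 9, 5, 9],
    [5, 10, 5, 10],
    [6, 6],
    [6, 7, 6, 7],
    [6, 8, 6, 8],
    [6, 9, 6, 9],
    [6, 10, 6, 10],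
    [7, 7],
    [7, 8, 7, 8],
    [7, 9, 7, 9, 7, 9],
    [7, 10, 7, 10],
    [8, 8],
    [8, 9, 8, 9],
    [8, 10, 8, 10],
    [9, 9],
    [9, 10, 9, 10, 9, 10],
    [10, 10],
    [1, 2, 3, 1, 4, 5, 1, 0, 6, 1, 2, 3, 1, 4, 5, 1, 0, 6, 1, 2, 3, 1, 4, 5, 1, 0, 6, 1, 2, 3, 1, 4, 5, 1, 0, 6, 1, 2, 3, 1, 4, 5, 1, 0, 6, 1, 2, 3, 1, 4, 5, 1, 0, 6, 1, 2, 3, 1, 4, 5, 1, 0, 6, 1, 2, 3, 1, 4, 5, 1, 0, 6, 1, 2, 3, 1, 4, 5, 1, 0, 6, 1, 2, 3, 1, 4, 5, 1, 0, 6],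
    [10, 1, 2, 4, 0, 3, 5, 7, 1, 2, 4, 0, 3, 5, 7, 1, 2, 4, 0, 3, 5, 7, 1, 2, 4, 0, 3, 5, 7, 1, 2, 4, 0, 3, 5, 7, 1, 2, 4, 0, 3, 5, 7, 1, 2, 4, 0, 3, 5, 7, 1, 2, 4, 0, 3, 5, 7, 1, 2, 4, 0, 3, 5, 7]]
  subs := [[0],
    [1],
    [2],
    [3],
    [4],
    [5],
    [6],
    [7],
    [8],
    [10]]
  N := 31671
  M := 32363
  F := 196193
  defs := certLDefs
  facts := (.node (.node (.node certLFactsLLL certLFactsLLR) (.node certLFactsLRL certLFactsLRR)) (.node (.node certLFactsRLL certLFactsRLR) (.node certLFactsRRL certLFactsRRR)))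
  refs := (.node (.node certLRefsLL certLRefsLR) (.node certLRefsRL certLRefsRR))
  tab := (.node certLTabL certLTabR)
  nd := certLNd
  edge := (.node certLEdgeL certLEdgeR)
  img := certLImg

end CfsgLib.SpiderRel
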