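import Cfsg.Agent.Lib.CosetEnum.Chunks
import Cfsg.Agent.Lib.SpiderRel.DataL

/-!
Kernel check of a block of a table.
-/

set_option autoImplicit false
set_option Elab.async false

namespace CfsgLib.SpiderRel
open CfsgLib.CosetEnum

theorem certL_act4 : allUp certL.actOK' 10 (4 * 2 ^ 10) = true := by decide +kernel

theorem certL_act5 : allUp certL.actOK' 10 (5 * 2 ^ 10) = true := by decide +kernel

theorem certL_act6 : allUp certL.actOK' 10 (6 * 2 ^ 10) = true := by decide +kernel

theorem certL_act7 : allUp certL.actOK' 10 (7 * 2 ^ 10) = true := by decide +kernel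

end CfsgLib.SpiderRel
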