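import Cfsg.Agent.Lib.CosetEnum.Blocks
import Cfsg.Agent.Lib.SpiderRel.CheckLStep0
import Cfsg.Agent.Lib.SpiderRel.CheckLStep1
import Cfsg.Agent.Lib.SpiderRel.CheckLStep2
import Cfsg.Agent.Lib.SpiderRel.CheckLStep3
import Cfsg.Agent.Lib.SpiderRel.CheckLStep4
import Cfsg.Agent.Lib.SpiderRel.CheckLStep5
import Cfsg.Agent.Lib.SpiderRel.CheckLStep6
import Cfsg.Agent.Lib.SpiderRel.CheckLStep7
import Cfsg.Agent.Lib.SpiderRel.CheckLStep8
import Cfsg.Agent.Lib.SpiderRel.CheckLStep9
import Cfsg.Agent.Lib.SpiderRel.CheckLStep10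
import Cfsg.Agent.Lib.SpiderRel.CheckLStep11
import Cfsg.Agent.Lib.SpiderRel.CheckLStep12
import Cfsg.Agent.Lib.SpiderRel.CheckLStep13
import Cfsg.Agent.Lib.SpiderRel.CheckLStep14
import Cfsg.Agent.Lib.SpiderRel.CheckLStep15
import Cfsg.Agent.Lib.SpiderRel.CheckLStep16
import Cfsg.Agent.Lib.SpiderRel.CheckLStep17
import Cfsg.Agent.Lib.SpiderRel.CheckLStep18
import Cfsg.Agent.Lib.SpiderRel.CheckLStep19
import Cfsg.Agent.Lib.SpiderRel.CheckLStep20
import Cfsg.Agent.Lib.SpiderRel.CheckLStep21
import Cfsg.Agent.Lib.SpiderRel.CheckLStep22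
import Cfsg.Agent.Lib.SpiderRel.CheckLStep23
import Cfsg.Agent.Lib.SpiderRel.CheckLStep24
import Cfsg.Agent.Lib.SpiderRel.CheckLStep25
import Cfsg.Agent.Lib.SpiderRel.CheckLStep26
import Cfsg.Agent.Lib.SpiderRel.CheckLStep27
import Cfsg.Agent.Lib.SpiderRel.CheckLStep28
import Cfsg.Agent.Lib.SpiderRel.CheckLStep29
import Cfsg.Agent.Lib.SpiderRel.CheckLStep30
import Cfsg.Agent.Lib.SpiderRel.CheckLStep31
import Cfsg.Agent.Lib.SpiderRel.CheckLStep32
import Cfsg.Agent.Lib.SpiderRel.CheckLStep33
import Cfsg.Agent.Lib.SpiderRel.CheckLStep34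
import Cfsg.Agent.Lib.SpiderRel.CheckLStep35
import Cfsg.Agent.Lib.SpiderRel.CheckLStep36
import Cfsg.Agent.Lib.SpiderRel.CheckLStep37
import Cfsg.Agent.Lib.SpiderRel.CheckLStep38
import Cfsg.Agent.Lib.SpiderRel.CheckLStep39
import Cfsg.Agent.Lib.SpiderRel.CheckLStep40
import Cfsg.Agent.Lib.SpiderRel.CheckLStep41
import Cfsg.Agent.Lib.SpiderRel.CheckLStep42
import Cfsg.Agent.Lib.SpiderRel.CheckLStep43
import Cfsg.Agent.Lib.SpiderRel.CheckLStep44
import Cfsg.Agent.Lib.SpiderRel.CheckLStep45
import Cfsg.Agent.Lib.SpiderRel.CheckLStep46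
import Cfsg.Agent.Lib.SpiderRel.CheckLStep47
import Cfsg.Agent.Lib.SpiderRel.CheckLEntry0
import Cfsg.Agent.Lib.SpiderRel.CheckLEntry1
import Cfsg.Agent.Lib.SpiderRel.CheckLEntry2
import Cfsg.Agent.Lib.SpiderRel.CheckLEntry3
import Cfsg.Agent.Lib.SpiderRel.CheckLEntry4
import Cfsg.Agent.Lib.SpiderRel.CheckLEntry5
import Cfsg.Agent.Lib.SpiderRel.CheckLEntry6
import Cfsg.Agent.Lib.SpiderRel.CheckLEntry7
import Cfsg.Agent.Lib.SpiderRel.CheckLAct0
import Cfsg.Agent.Lib.SpiderRel.CheckLAct4
import Cfsg.Agent.Lib.SpiderRel.CheckLAct8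
import Cfsg.Agent.Lib.SpiderRel.CheckLAct12
import Cfsg.Agent.Lib.SpiderRel.CheckLAct16
import Cfsg.Agent.Lib.SpiderRel.CheckLAct20
import Cfsg.Agent.Lib.SpiderRel.CheckLAct24
import Cfsg.Agent.Lib.SpiderRel.CheckLAct28
import Cfsg.Agent.Lib.SpiderRel.CheckLNdImg0
import Cfsg.Agent.Lib.SpiderRel.CheckLNdImg1
import Cfsg.Agent.Lib.SpiderRel.CheckLNdImg2
import Cfsg.Agent.Lib.SpiderRel.CheckLNdImg3
import Cfsg.Agent.Lib.SpiderRel.CheckLNdImg4
import Cfsg.Agent.Lib.SpiderRel.CheckLNdImg5
import Cfsg.Agent.Lib.SpiderRel.CheckLNdImg6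
import Cfsg.Agent.Lib.SpiderRel.CheckLNdImg7
import Cfsg.Agent.Lib.SpiderRel.CheckLNdImg8
import Cfsg.Agent.Lib.SpiderRel.CheckLNdImg9
import Cfsg.Agent.Lib.SpiderRel.CheckLNdImg10
import Cfsg.Agent.Lib.SpiderRel.CheckLNdImg11
import Cfsg.Agent.Lib.SpiderRel.CheckLNdImg12
import Cfsg.Agent.Lib.SpiderRel.CheckLNdImg13
import Cfsg.Agent.Lib.SpiderRel.CheckLNdImg14
import Cfsg.Agent.Lib.SpiderRel.CheckLNdImg15
import Cfsg.Agent.Lib.SpiderRel.CheckLNdImg16
import Cfsg.Agent.Lib.SpiderRel.CheckLNdImg17
import Cfsg.Agent.Lib.SpiderRel.CheckLNdImg18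
import Cfsg.Agent.Lib.SpiderRel.CheckLNdImg19
import Cfsg.Agent.Lib.SpiderRel.CheckLNdImg20
import Cfsg.Agent.Lib.SpiderRel.CheckLNdImg21
import Cfsg.Agent.Lib.SpiderRel.CheckLNdImg22
import Cfsg.Agent.Lib.SpiderRel.CheckLNdImg23
import Cfsg.Agent.Lib.SpiderRel.CheckLNdImg24
import Cfsg.Agent.Lib.SpiderRel.CheckLNdImg25
import Cfsg.Agent.Lib.SpiderRel.CheckLNdImg26
import Cfsg.Agent.Lib.SpiderRel.CheckLNdImg27
import Cfsg.Agent.Lib.SpiderRel.CheckLNdImg28
import Cfsg.Agent.Lib.SpiderRel.CheckLNdImg29
import Cfsg.Agent.Lib.SpiderRel.CheckLNdImg30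
import Cfsg.Agent.Lib.SpiderRel.CheckLImg0
import Cfsg.Agent.Lib.SpiderRel.CheckLImg1
import Cfsg.Agent.Lib.SpiderRel.CheckLImg2
import Cfsg.Agent.Lib.SpiderRel.CheckLImg3

/-!
Kernel checks of coset enumeration data.
-/

set_option autoImplicit false

namespace CfsgLib.SpiderRel
open CfsgLib.CosetEnum

theorem certL_complete : certL.Complete :=
  Cert.complete_of_blocks₂ _ (k := 12) (n := 48) (k₂ := 12) (n₂ := 8)
    (by decide +kernel)
    (fun j hj => by
      match j, hj with
      | 0, _ => exact certL_step0
      | 1, _ => exact certL_step1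
      | 2, _ => exact certL_step2
      | 3, _ => exact certL_step3
      | 4, _ => exact certL_step4
      | 5, _ => exact certL_step5
      | 6, _ => exact certL_step6
      | 7, _ => exact certL_step7
      | 8, _ => exact certL_step8
      | 9, _ => exact certL_step9
      | 10, _ => exact certL_step10
      | 11, _ => exact certL_step11
      | 12, _ => exact certL_step12
      | 13, _ => exact certL_step13
      | 14, _ => exact certL_step14
      | 15, _ => exact certL_step15
      | 16, _ => exact certL_step16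
      | 17, _ => exact certL_step17
      | 18, _ => exact certL_step18
      | 19, _ => exact certL_step19
      | 20, _ => exact certL_step20
      | 21, _ => exact certL_step21
      | 22, _ => exact certL_step22
      | 23, _ => exact certL_step23
      | 24, _ => exact certL_step24
      | 25, _ => exact certL_step25
      | 26, _ => exact certL_step26
      | 27, _ => exact certL_step27
      | 28, _ => exact certL_step28
      | 29, _ => exact certL_step29
      | 30, _ => exact certL_step30
      | 31, _ => exact certL_step31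
      | 32, _ => exact certL_step32
      | 33, _ => exact certL_step33
      | 34, _ => exact certL_step34
      | 35, _ => exact certL_step35
      | 36, _ => exact certL_step36
      | 37, _ => exact certL_step37
      | 38, _ => exact certL_step38
      | 39, _ => exact certL_step39
      | 40, _ => exact certL_step40
      | 41, _ => exact certL_step41
      | 42, _ => exact certL_step42
      | 43, _ => exact certL_step43
      | 44, _ => exact certL_step44
      | 45, _ => exact certL_step45
      | 46, _ => exact certL_step46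
      | 47, _ => exact certL_step47
      | r + 48, h => omega)
    (by decide +kernel)
    (fun j hj => by
      match j, hj with
      | 0, _ => exact certL_entry0
      | 1, _ => exact certL_entry1
      | 2, _ => exact certL_entry2
      | 3, _ => exact certL_entry3
      | 4, _ => exact certL_entry4
      | 5, _ => exact certL_entry5
      | 6, _ => exact certL_entry6
      | 7, _ => exact certL_entry7
      | r + 8, h => omega)
    (by decide +kernel)

theorem certL_action : certL.IsAction :=
  Cert.isAction_of_blocks _ (k₁ := 13) (n₁ := 4) (k₂ := 10) (n₂ := 31)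
    (by decide +kernel) (by decide +kernel)
    (fun j hj => by
      match j, hj with
      | 0, _ => exact certL_act0
      | 1, _ => exact certL_act1
      | 2, _ => exact certL_act2
      | 3, _ => exact certL_act3
      | 4, _ => exact certL_act4
      | 5, _ => exact certL_act5
      | 6, _ => exact certL_act6
      | 7, _ => exact certL_act7
      | 8, _ => exact certL_act8
      | 9, _ => exact certL_act9
      | 10, _ => exact certL_act10
      | 11, _ => exact certL_act11
      | 12, _ => exact certL_act12
      | 13, _ => exact certL_act13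
      | 14, _ => exact certL_act14
      | 15, _ => exact certL_act15
      | 16, _ => exact certL_act16
      | 17, _ => exact certL_act17
      | 18, _ => exact certL_act18
      | 19, _ => exact certL_act19
      | 20, _ => exact certL_act20
      | 21, _ => exact certL_act21
      | 22, _ => exact certL_act22
      | 23, _ => exact certL_act23
      | 24, _ => exact certL_act24
      | 25, _ => exact certL_act25
      | 26, _ => exact certL_act26
      | 27, _ => exact certL_act27
      | 28, _ => exact certL_act28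
      | 29, _ => exact certL_act29
      | 30, _ => exact certL_act30
      | r + 31, h => omega)
    (fun j hj => by
      match j, hj with
      | 0, _ => exact certL_ndimg0
      | 1, _ => exact certL_ndimg1
      | 2, _ => exact certL_ndimg2
      | 3, _ => exact certL_ndimg3
      | 4, _ => exact certL_ndimg4
      | 5, _ => exact certL_ndimg5
      | 6, _ => exact certL_ndimg6
      | 7, _ => exact certL_ndimg7
      | 8, _ => exact certL_ndimg8
      | 9, _ => exact certL_ndimg9
      | 10, _ => exact certL_ndimg10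
      | 11, _ => exact certL_ndimg11
      | 12, _ => exact certL_ndimg12
      | 13, _ => exact certL_ndimg13
      | 14, _ => exact certL_ndimg14
      | 15, _ => exact certL_ndimg15
      | 16, _ => exact certL_ndimg16
      | 17, _ => exact certL_ndimg17
      | 18, _ => exact certL_ndimg18
      | 19, _ => exact certL_ndimg19
      | 20, _ => exact certL_ndimg20
      | 21, _ => exact certL_ndimg21
      | 22, _ => exact certL_ndimg22
      | 23, _ => exact certL_ndimg23
      | 24, _ => exact certL_ndimg24
      | 25, _ => exact certL_ndimg25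
      | 26, _ => exact certL_ndimg26
      | 27, _ => exact certL_ndimg27
      | 28, _ => exact certL_ndimg28
      | 29, _ => exact certL_ndimg29
      | 30, _ => exact certL_ndimg30
      | r + 31, h => omega)
    (by decide +kernel)
    (fun j hj => by
      match j, hj with
      | 0, _ => exact certL_img0
      | 1, _ => exact certL_img1
      | 2, _ => exact certL_img2
      | 3, _ => exact certL_img3
      | r + 4, h => omega)
    (by decide +kernel)

end CfsgLib.SpiderRel
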