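import Cfsg.Agent.Lib.CosetEnum.Basic

/-!
Coset enumeration data: 4 cosets, 4 nodes, 9 facts.
-/

set_option autoImplicit false
set_option linter.style.longLine false

namespace CfsgLib.SpiderRel
open CfsgLib.CosetEnum

/-- the certificate -/
def certS3 : Cert where
  K := 3
  invs := [0, 1, 2]
  rels := [[0, 0],
    [0, 1, 0, 1, 0, 1],
    [0, 2, 0, 2],
    [1, 1],
    [1, 2, 1, 2, 1, 2],
    [2, 2]]
  subs := [[0],
    [1]]
  N := 4
  M := 4
  F := 9
  defs := (.leaf 0x40000002100000020000000)
  facts := (.leaf 0x2800000160200200c0000184000030001800000100100201400001880000300000000001000000000000018000002000280000006020020240000108000020000000000060000000000001040000100018000000001004014000008000001000000000000000000000000088000000000000000000000000e00000040000000000000000000000006000000000000)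
  refs := (.leaf 0xc00000800000600000900000d00000c00000a00000d000008000004000002000005000009000004000000000005)
  tab := (.leaf 0x30000300002000020000100003000000000200001000010000000000)
  nd := (.leaf 0x3000002000001000000)
  edge := (.leaf 0xf00001100000d00000b00000900000c000005000008000007000004000003000001)
  img := (.leaf 0x3000020000100000)

end CfsgLib.SpiderRel
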