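import Cfsg.Agent.Lib.SpiderRel.CheckTStep0
import Cfsg.Agent.Lib.SpiderRel.CheckTStep1
import Cfsg.Agent.Lib.SpiderRel.CheckTStep2
import Cfsg.Agent.Lib.SpiderRel.CheckTStep3
import Cfsg.Agent.Lib.SpiderRel.CheckTStep4
import Cfsg.Agent.Lib.SpiderRel.CheckTStep5
import Cfsg.Agent.Lib.SpiderRel.CheckTStep6
import Cfsg.Agent.Lib.CosetEnum.Use
import Cfsg.Agent.Lib.SpiderRel.DataT

/-!
Kernel checks of coset enumeration data.
-/

set_option autoImplicit false

namespace CfsgLib.SpiderRel
open CfsgLib.CosetEnum

theorem certT_complete : certT.Complete :=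
  Cert.complete_of_blocks _ (k := 13) (n := 7) (k₂ := 0) (by decide +kernel)
    (fun j hj => by
      match j, hj with
      | 0, _ => exact certT_step0
      | 1, _ => exact certT_step1
      | 2, _ => exact certT_step2
      | 3, _ => exact certT_step3
      | 4, _ => exact certT_step4
      | 5, _ => exact certT_step5
      | 6, _ => exact certT_step6
      | n + 7, h => omega)
    (by decide +kernel) (by decide +kernel) (by decide +kernel)

end CfsgLib.SpiderRel
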