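import Cfsg.Prelude.Def_SporCoxeter
import Cfsg.Agent.Lib.CosetEnum.Words

/-!
The sub-diagrams on nine and eleven nodes of the Y-diagram with the spider relation.

The numbering is b₃, a, b₁, c₁, b₂, c₂, c₃, d₁, d₂, e₁, f₁, so that the first n nodes form the chain
of diagrams used by the coset enumerations.
-/

set_option autoImplicit false

namespace CfsgLib.SpiderRel

open CfsgLib.CosetEnum Cfsg.Spor

/-- the edges of the nine node diagram -/
def edges9 : List (Fin 9 × ℕ × Fin 9) :=
  [(1, 3, 2), (1, 3, 4), (1, 3, 0), (2, 3, 3), (3, 3, 7), (4, 3, 5), (0, 3, 6), (5, 3, 8)]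

/-- the edges of the eleven node diagram -/
def edges11 : List (Fin 11 × ℕ × Fin 11) :=
  [(1, 3, 2), (1, 3, 4), (1, 3, 0), (2, 3, 3), (3, 3, 7), (7, 3, 9), (9, 3, 10), (4, 3, 5),
    (0, 3, 6), (5, 3, 8)]

/-- `a b₁ c₁ a b₂ c₂ a b₃ c₃` -/
def spiderU : List ℕ := [1, 2, 3, 1, 4, 5, 1, 0, 6]

/-- `a b₁ b₂ b₃ c₁ c₂ d₁` -/
def coxU : List ℕ := [1, 2, 4, 0, 3, 5, 7]

/-- the spider relator on nine nodes -/
def spider9 : List (FreeGroup (Fin 9)) :=
  [(FreeGroup.of 1 * FreeGroup.of 2 * FreeGroup.of 3 * FreeGroup.of 1 * FreeGroup.of 4 *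
    FreeGroup.of 5 * FreeGroup.of 1 * FreeGroup.of 0 * FreeGroup.of 6) ^ 10]

/-- the spider relator on eleven nodes -/
def spider11 : List (FreeGroup (Fin 11)) :=
  [(FreeGroup.of 1 * FreeGroup.of 2 * FreeGroup.of 3 * FreeGroup.of 1 * FreeGroup.of 4 *
    FreeGroup.of 5 * FreeGroup.of 1 * FreeGroup.of 0 * FreeGroup.of 6) ^ 10]

/-- the nodes in order -/
def letters9 : List (Fin 9) := [0, 1, 2, 3, 4, 5, 6, 7, 8]

/-- the nodes in order -/
def letters11 : List (Fin 11) := [0, 1, 2, 3, 4, 5, 6, 7, 8, 9, 10]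

theorem mem_letters9 : ∀ x, x ∈ letters9 := by decide

theorem mem_letters11 : ∀ x, x ∈ letters11 := by decide

theorem nodes9 : ∀ x, x ∈ coxNodes edges9 := by decide

theorem nodes11 : ∀ x, x ∈ coxNodes edges11 := by decide

theorem extraWords9 : ExtraWords letters9 spider9 [powWord spiderU 10] := by
  unfold ExtraWords spider9
  refine .cons ?_ .nil
  intro P _ f _
  rw [map_pow, prodW_powWord]
  simp [prodW, genOf, letters9, spiderU, mul_assoc]

theorem extraWords11 : ExtraWords letters11 spider11 [powWord spiderU 10] := by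
  unfold ExtraWords spider11
  refine .cons ?_ .nil
  intro P _ f _
  rw [map_pow, prodW_powWord]
  simp [prodW, genOf, letters11, spiderU, mul_assoc]

/-- A map of the nodes which respects labels and the spider relation induces a homomorphism. -/
theorem exists_hom {α : Type} [DecidableEq α] {edges : List (α × ℕ × α)} {gl : List α}
    {extra : List (FreeGroup α)} {u : List ℕ} (hex : ExtraWords gl extra [u])
    {Q : Type} [Group Q] (f : α → Q)
    (hpair : ∀ x y, (f x * f y) ^ coxLabel edges x y = 1)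
    (hu : prodW (genOf gl f) u = 1) :
    ∃ φ : CoxPresented α edges extra →* Q, ∀ x, φ (PresentedGroup.of x) = f x := by
  have hsq : ∀ x, f x * f x = 1 := fun x => by
    have h := hpair x x
    rwa [coxLabel_self, pow_one] at h
  have hrel : ∀ r ∈ coxRelators edges ∪ {r | r ∈ extra}, FreeGroup.lift f r = 1 := by
    rintro r (⟨x, -, y, -, rfl⟩ | hr)
    · simp only [map_pow, map_mul, FreeGroup.lift_apply_of]
      exact hpair x y
    · obtain ⟨k, hk, rfl⟩ := List.getElem_of_mem (Set.mem_ofPred_eq ▸ hr : r ∈ extra)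
      have hlen := hex.length_eq
      have h2 := List.forall₂_iff_get.mp hex |>.2 k hk (by omega)
      simp only [List.get_eq_getElem] at h2
      rw [h2 _ f hsq]
      obtain rfl : k = 0 := by simp at hlen; omega
      simpa using hu
  exact ⟨PresentedGroup.toGroup hrel, fun x => PresentedGroup.toGroup.of hrel⟩

end CfsgLib.SpiderRel
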