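import Cfsg.Agent.Lib.SpiderRel.Nine
import Cfsg.Agent.Lib.SpiderRel.CheckJ
import Cfsg.Agent.Lib.SpiderRel.CheckT
import Cfsg.Agent.Lib.SpiderRel.CheckL

/-!
The spider relation gives `f₁ = (a b₁ b₂ b₃ c₁ c₂ d₁)⁹`.

The node f₁ lies in the subgroup of the other ten nodes; an action on 31671 points shows that it lies
in the subgroup of the first nine, whose centre is known; the sign and the relation with e₁ decide.
-/

set_option autoImplicit false

namespace CfsgLib.SpiderRel

open CfsgLib.CosetEnum Cfsg.Spor

seal powWord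

/-- the eleven node group -/
abbrev P11 : Type := CoxPresented (Fin 11) edges11 spider11

/-- its numbered generators -/
def g11 : ℕ → P11 := presGen letters11 edges11 spider11

theorem g11_sq (g : ℕ) : g11 g * g11 g = 1 := by
  unfold g11 presGen genOf
  split
  · exact of_sq (nodes11 _)
  · simp

theorem presT : presOK letters11 edges11 [powWord spiderU 10] certT = true := by decide +kernel

theorem g11_eq (x : Fin 11) : g11 x = PresentedGroup.of x := by fin_cases x <;> rfl

theorem label_cast : ∀ x y : Fin 9, coxLabel edges11 (Fin.castLE (by norm_num) x)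
    (Fin.castLE (by norm_num) y) = coxLabel edges9 x y := by decide

theorem exists_incl : ∃ φ : P9 →* P11, ∀ x,
    φ (PresentedGroup.of x) = PresentedGroup.of (Fin.castLE (by norm_num) x) := by
  refine exists_hom extraWords9 _ (fun x y => ?_) ?_
  · rw [← label_cast]
    exact of_pair (nodes11 _) (nodes11 _)
  · have h : prodW g11 (powWord spiderU 10) = 1 :=
      (presModel (H := ⊤) nodes11 extraWords11 presT fun w _ => Subgroup.mem_top _).rel _
        (by decide +kernel)
    rw [prodW_powWord] at h ⊢
    simpa [prodW, genOf, letters9, letters11, spiderU, g11, presGen] using h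

/-- the map of the nine node group -/
noncomputable def incl : P9 →* P11 := exists_incl.choose

theorem incl_g9 {g : ℕ} (hg : g < 9) : incl (g9 g) = g11 g := by
  have h : g9 g = PresentedGroup.of (⟨g, hg⟩ : Fin 9) := g9_eq ⟨g, hg⟩
  rw [h]
  exact (exists_incl.choose_spec _).trans (g11_eq _).symm

theorem incl_word {u : List ℕ} (hu : ∀ g ∈ u, g < 9) : incl (prodW g9 u) = prodW g11 u := by
  rw [map_prodW]
  exact prodW_congr fun g hg => incl_g9 (hu g hg)

theorem range_incl : incl.range = genSub g11 9 := by
  rw [MonoidHom.range_eq_map, ← setupI.gen_top, MonoidHom.map_closure, genSub]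
  congr 1
  have hK : certI.K = 9 := rfl
  ext y
  simp only [Set.mem_image, Set.mem_ofPred_eq, hK]
  exact ⟨fun ⟨_, ⟨g, hg, e⟩, e'⟩ => ⟨g, hg, by rw [← e', ← e, incl_g9 hg]⟩,
    fun ⟨g, hg, e⟩ => ⟨g9 g, ⟨g, hg, rfl⟩, by rw [incl_g9 hg, e]⟩⟩

theorem genSub_ten_top : genSub g11 10 = ⊤ := by
  have hs : Subgroup.closure {y | ∃ w ∈ certT.subs, prodW g11 w = y} = genSub g11 10 :=
    subs_closure_genSub (by decide +kernel)
  have m : Model certT (genSub g11 10) g11 := presModel nodes11 extraWords11 presT _
    fun w hw => hs ▸ Subgroup.subset_closure ⟨w, hw, rfl⟩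
  refine eq_top_iff.2 fun x _ => ?_
  obtain ⟨i, hi, h⟩ := exists_coset certT_complete m (x := x)
    (by rw [g11, presGen_top mem_letters11 rfl]; trivial)
  have h1 : certT.N = 1 := rfl
  obtain rfl : i = 0 := by omega
  simpa [coreRep, certT_complete.nd_zero, psi_zero] using h

theorem exists_reps (x : P11) : ∃ i < certJ.N, x * (coreRep certJ (blockGen g11 0 10) i)⁻¹ ∈ incl.range := by
  have hr : ∀ r ∈ certT.rels, prodW g11 r = 1 :=
    (presModel (H := ⊤) nodes11 extraWords11 presT fun w _ => Subgroup.mem_top _).rel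
  have m := blockModel g11_sq hr (show blockOK certJ certT.rels 0 10 = true by decide +kernel)
  rw [subs_closure_eq (show subsBlockOK certJ 0 9 = true by decide +kernel) (by norm_num),
    genSub_blockGen_zero] at m
  have hx : x ∈ Subgroup.closure {y | ∃ g < certJ.K, blockGen g11 0 10 g = y} := by
    have hK : certJ.K = 10 := rfl
    rw [hK]
    change x ∈ genSub (blockGen g11 0 10) 10
    rw [genSub_blockGen_zero, genSub_ten_top]
    trivial
  obtain ⟨i, hi, h⟩ := exists_coset certJ_complete m hx
  exact ⟨i, hi, by rwa [range_incl]⟩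

/-- the further relators of the finite quotient -/
def extraL : List (FreeGroup (Fin 11)) :=
  [(FreeGroup.of 1 * FreeGroup.of 2 * FreeGroup.of 3 * FreeGroup.of 1 * FreeGroup.of 4 *
    FreeGroup.of 5 * FreeGroup.of 1 * FreeGroup.of 0 * FreeGroup.of 6) ^ 10,
   FreeGroup.of 10 * (FreeGroup.of 1 * FreeGroup.of 2 * FreeGroup.of 4 * FreeGroup.of 0 *
    FreeGroup.of 3 * FreeGroup.of 5 * FreeGroup.of 7) ^ 9]

theorem extraWordsL :
    ExtraWords letters11 extraL [powWord spiderU 10, 10 :: powWord coxU 9] := by
  unfold ExtraWords extraL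
  refine .cons ?_ (.cons ?_ .nil)
  · intro P _ f _
    rw [map_pow, prodW_powWord]
    simp [prodW, genOf, letters11, spiderU, mul_assoc]
  · intro P _ f _
    rw [map_mul, map_pow, prodW_cons, prodW_powWord]
    simp [prodW, genOf, letters11, coxU, mul_assoc]

/-- the quotient in which f₁ is the Coxeter element -/
abbrev PL : Type := CoxPresented (Fin 11) edges11 extraL

/-- its numbered generators -/
def gL : ℕ → PL := presGen letters11 edges11 extraL

theorem presL : presOK letters11 edges11 [powWord spiderU 10, 10 :: powWord coxU 9] certL = true := by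
  decide +kernel

/-- the stabilizer of the base point -/
def HL : Subgroup PL := Subgroup.closure {y | ∃ w ∈ certL.subs, prodW gL w = y}

theorem exists_actionL : ∃ ρ : PL →* Equiv.Perm (Fin certL.N),
    ∀ g < certL.K, ρ (gL g) = letterPerm certL_complete certL_action g :=
  exists_presAction mem_letters11 (by decide) extraWordsL presL certL_complete certL_action

theorem setupL : Setup certL HL gL exists_actionL.choose where
  complete := certL_complete
  action := certL_action
  model := presModel nodes11 extraWordsL presL _ fun w hw => Subgroup.subset_closure ⟨w, hw, rfl⟩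
  gen_top := presGen_top mem_letters11 rfl
  rho_gen := exists_actionL.choose_spec
  H_eq := rfl

theorem exists_quot : ∃ φ : P11 →* PL, ∀ x, φ (PresentedGroup.of x) = PresentedGroup.of x := by
  refine exists_hom extraWords11 _ (fun x y => of_pair (nodes11 _) (nodes11 _)) ?_
  exact (presModel (H := ⊤) nodes11 extraWordsL presL fun w _ => Subgroup.mem_top _).rel _
    (by decide +kernel)

theorem f_mem : g11 10 ∈ incl.range := by
  obtain ⟨u, hu⟩ := exists_quot
  have hu' : ∀ g < 11, u (g11 g) = gL g := by
    intro g hg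
    interval_cases g <;> exact hu _
  have hsurj : Function.Surjective u := by
    rw [← MonoidHom.range_eq_top, eq_top_iff, ← setupL.gen_top, Subgroup.closure_le]
    rintro y ⟨g, hg, rfl⟩
    exact ⟨g11 g, hu' g hg⟩
  have hHL : ∀ g < 11, g ≠ 9 → gL g ∈ HL := by
    intro g hg hne
    have hm : [g] ∈ certL.subs := by
      have : ∀ g < 11, g ≠ 9 → [g] ∈ certL.subs := by decide +kernel
      exact this g hg hne
    exact Subgroup.subset_closure ⟨[g], hm, by simp⟩
  set S := HL.comap u
  have hle : incl.range ≤ S := by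
    rw [range_incl, genSub, Subgroup.closure_le]
    rintro y ⟨g, hg, rfl⟩
    show u (g11 g) ∈ HL
    rw [hu' g (by omega)]
    exact hHL g (by omega) (by omega)
  have hidx : S.index = 31671 := by
    rw [Subgroup.index_comap_of_surjective _ hsurj, setupL.index_eq]
    rfl
  let r : Fin certJ.N → P11 ⧸ incl.range :=
    fun i => (((coreRep certJ (blockGen g11 0 10) i)⁻¹ : P11) : P11 ⧸ incl.range)
  have hr : Function.Surjective r := by
    intro q
    induction q using QuotientGroup.induction_on with
    | _ x =>
      obtain ⟨i, hi, h⟩ := exists_reps x⁻¹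
      refine ⟨⟨i, hi⟩, QuotientGroup.eq.2 ?_⟩
      simpa using inv_mem h
  haveI : Finite (P11 ⧸ incl.range) := Finite.of_surjective r hr
  have hK : incl.range.index ≤ 31671 := by
    have h := Nat.card_le_card_of_surjective r hr
    rw [Nat.card_fin] at h
    exact h.trans_eq rfl
  have hpos : 0 < incl.range.index := Nat.card_pos
  have hmul := Subgroup.relIndex_mul_index hle
  rw [hidx] at hmul
  have h1 : incl.range.relIndex S = 1 := by
    rcases Nat.lt_or_ge 1 (incl.range.relIndex S) with h | h
    · have h2 := Nat.mul_le_mul_right 31671 (Nat.succ_le_of_lt h)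
      omega
    · rcases Nat.eq_zero_or_pos (incl.range.relIndex S) with h0 | h0
      · rw [h0] at hmul; exact absurd (hmul.symm.trans (Nat.zero_mul _)) hpos.ne'
      · omega
  refine Subgroup.relIndex_eq_one.1 h1 ?_
  show u (g11 10) ∈ HL
  rw [hu' 10 (by norm_num)]
  exact hHL 10 (by norm_num) (by norm_num)

theorem exists_sign11 : ∃ φ : P11 →* ℤˣ, ∀ x, φ (PresentedGroup.of x) = -1 := by
  refine exists_hom extraWords11 (fun _ => -1) (fun x y => by simp) ?_
  rw [prodW_powWord, show (10 : ℕ) = 2 * 5 from rfl, pow_mul, Int.units_sq, one_pow]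

theorem pair11 (i j : ℕ) (hi : i < 11) (hj : j < 11) :
    (g11 i * g11 j) ^ coxLabel edges11 ⟨i, hi⟩ ⟨j, hj⟩ = 1 := by
  have h1 : g11 i = PresentedGroup.of (⟨i, hi⟩ : Fin 11) := g11_eq ⟨i, hi⟩
  have h2 : g11 j = PresentedGroup.of (⟨j, hj⟩ : Fin 11) := g11_eq ⟨j, hj⟩
  rw [h1, h2]
  exact of_pair (nodes11 _) (nodes11 _)

theorem eq_of_braid {G : Type*} [Group G] {x y : G} (h2 : x * x = 1) (h2' : y * y = 1)
    (hc : x * y = y * x) (h3 : (x * y) ^ 3 = 1) : x = y := by
  have h : (x * y) ^ 3 = (x * y) * ((x * y) * (x * y)) := by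
    rw [pow_succ', pow_two]
  have e : (x * y) * (x * y) = 1 := by
    rw [mul_assoc, ← mul_assoc y x y, ← hc, mul_assoc x y y, h2', mul_one, h2]
  rw [h, e, mul_one, mul_eq_one_iff_eq_inv] at h3
  rw [h3]
  exact inv_eq_of_mul_eq_one_right h2'

/-- The relation in the eleven node group. -/
theorem arm : g11 10 = prodW g11 (powWord coxU 9) := by
  rw [← incl_word (by decide +kernel)]
  change g11 10 = incl wOne
  have hcomm : ∀ x, incl x * g11 10 = g11 10 * incl x := by
    suffices hc : ∀ y ∈ genSub g11 9, y * g11 10 = g11 10 * y from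
      fun x => hc _ (range_incl ▸ ⟨x, rfl⟩)
    intro y hx
    induction hx using Subgroup.closure_induction with
    | mem y hy =>
      obtain ⟨g, hg, rfl⟩ := hy
      have hlab : ∀ g : Fin 11, g.1 < 9 → coxLabel edges11 g 10 = 2 := by decide
      have h := pair11 g 10 (by omega) (by norm_num)
      rw [show coxLabel edges11 ⟨g, by omega⟩ ⟨10, by norm_num⟩ = 2 from hlab ⟨g, by omega⟩ hg,
        pow_two, mul_eq_one_iff_eq_inv, mul_inv_rev, inv_eq_of_mul_eq_one_right (g11_sq _),
        inv_eq_of_mul_eq_one_right (g11_sq _)] at h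
      exact h
    | one => simp
    | mul a b _ _ ha hb => rw [mul_assoc, hb, ← mul_assoc, ha, mul_assoc]
    | inv a _ ha => exact ((show Commute a (g11 10) from ha).inv_left).eq
  obtain ⟨z, hz, e⟩ := range_central incl f_mem hcomm
  obtain ⟨sg, hsg⟩ := exists_sign11
  have hs10 : sg (g11 10) = -1 := by
    rw [show g11 10 = PresentedGroup.of (10 : Fin 11) from g11_eq 10, hsg]
  have hsg9 : ∀ x, sg (incl x) = sgn9 x := by
    refine fun x => DFunLike.congr_fun (f := sg.comp incl) ?_ x
    refine PresentedGroup.ext fun y => ?_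
    rw [MonoidHom.comp_apply, incl, exists_incl.choose_spec, hsg, sgn9, exists_sign.choose_spec]
  have hw1 : sgn9 wOne = -1 := by
    rw [wOne, sgn9_word (by decide +kernel),
      show (powWord coxU 9).length = 63 by decide +kernel]
    rfl
  have hw2 : sgn9 wTwo = -1 := by
    rw [wTwo, wOne, theta_word (by decide +kernel), sgn9_word (by decide +kernel), List.length_map,
      show (powWord coxU 9).length = 63 by decide +kernel]
    rfl
  rcases mem_Zw hz with rfl | rfl | rfl | rfl
  · rw [← e, map_one, map_one] at hs10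
    exact absurd hs10 (by decide)
  · exact e.symm
  · have hwT : wTwo = prodW g9 ((powWord coxU 9).map fun g => thIdx.getD g 0) := by
      rw [wTwo, wOne, theta_word (by decide +kernel)]
    have hc : g11 9 * g11 10 = g11 10 * g11 9 := by
      rw [← e, hwT, incl_word (by decide +kernel)]
      have hmem : ∀ g ∈ (powWord coxU 9).map (fun g => thIdx.getD g 0), g < 9 ∧ g ≠ 7 := by
        decide +kernel
      revert hmem
      generalize (powWord coxU 9).map (fun g => thIdx.getD g 0) = u
      intro hmem
      induction u with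
      | nil => simp
      | cons g u ih =>
        rw [List.forall_mem_cons] at hmem
        rw [prodW_cons, ← mul_assoc]
        have hlab : ∀ g : Fin 11, g.1 < 9 → g.1 ≠ 7 → coxLabel edges11 g 9 = 2 := by decide
        have h := pair11 g 9 (by omega) (by norm_num)
        rw [show coxLabel edges11 ⟨g, by omega⟩ ⟨9, by norm_num⟩ = 2 from
          hlab ⟨g, by omega⟩ hmem.1.1 hmem.1.2, pow_two, mul_eq_one_iff_eq_inv, mul_inv_rev,
          inv_eq_of_mul_eq_one_right (g11_sq _), inv_eq_of_mul_eq_one_right (g11_sq _)] at h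
        rw [← h, mul_assoc, ih hmem.2, mul_assoc]
    have step : ∀ i j (hi : i < 11) (hj : j < 11),
        coxLabel edges11 ⟨i, hi⟩ ⟨j, hj⟩ = 3 → g11 i * g11 j = g11 j * g11 i → g11 i = g11 j := by
      intro i j hi hj hl hij
      have h := pair11 i j hi hj
      rw [hl] at h
      exact eq_of_braid (g11_sq _) (g11_sq _) hij h
    have h10 : ∀ g < 9, g11 g * g11 10 = g11 10 * g11 g := fun g hg => by
      rw [← incl_g9 hg]; exact hcomm _
    have e9 : g11 9 = g11 10 := step 9 10 (by norm_num) (by norm_num) (by decide) hc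
    have e7 : g11 7 = g11 10 := by
      rw [← e9]; exact step 7 9 (by norm_num) (by norm_num) (by decide) (by rw [e9]; exact h10 7 (by norm_num))
    have e3 : g11 3 = g11 10 := by
      rw [← e7]; exact step 3 7 (by norm_num) (by norm_num) (by decide) (by rw [e7]; exact h10 3 (by norm_num))
    have e2 : g11 2 = g11 10 := by
      rw [← e3]; exact step 2 3 (by norm_num) (by norm_num) (by decide) (by rw [e3]; exact h10 2 (by norm_num))
    have e1 : g11 1 = g11 10 := by
      rw [← e2]; exact step 1 2 (by norm_num) (by norm_num) (by decide) (by rw [e2]; exact h10 1 (by norm_num))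
    have e0 : g11 0 = g11 10 := by
      rw [← e1]; exact (step 1 0 (by norm_num) (by norm_num) (by decide) (by rw [e1]; exact (h10 0 (by norm_num)).symm)).symm
    have e4 : g11 4 = g11 10 := by
      rw [← e1]; exact (step 1 4 (by norm_num) (by norm_num) (by decide) (by rw [e1]; exact (h10 4 (by norm_num)).symm)).symm
    have e5 : g11 5 = g11 10 := by
      rw [← e4]; exact (step 4 5 (by norm_num) (by norm_num) (by decide) (by rw [e4]; exact (h10 5 (by norm_num)).symm)).symm
    have hu : prodW g11 coxU = g11 10 ^ 7 := by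
      simp [prodW, coxU, e0, e1, e2, e3, e4, e5, e7, pow_succ', mul_assoc]
    rw [wOne, incl_word (by decide +kernel), prodW_powWord, hu, ← pow_mul,
      show 7 * 9 = 2 * 31 + 1 from rfl, pow_succ, pow_mul, pow_two, g11_sq, one_pow, one_mul]
  · rw [← e, hsg9, map_mul, hw1, hw2] at hs10
    exact absurd hs10 (by decide)

/-- The relation in any group with the relations of the eleven node diagram. -/
theorem arm_of {Q : Type} [Group Q] (f : Fin 11 → Q)
    (hpair : ∀ x y, (f x * f y) ^ coxLabel edges11 x y = 1)
    (hsp : (f 1 * f 2 * f 3 * f 1 * f 4 * f 5 * f 1 * f 0 * f 6) ^ 10 = 1) :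
    f 10 = (f 1 * f 2 * f 4 * f 0 * f 3 * f 5 * f 7) ^ 9 := by
  obtain ⟨φ, hφ⟩ := exists_hom extraWords11 f hpair (by
    rw [prodW_powWord]
    simpa [prodW, genOf, letters11, spiderU, mul_assoc] using hsp)
  have h := congrArg φ arm
  rw [prodW_powWord, map_pow] at h
  simpa [prodW, g11, presGen, genOf, letters11, coxU, hφ, mul_assoc] using h

/-- The spider relation with two arms interchanged. -/
theorem swap_of {Q : Type} [Group Q] (f : Fin 9 → Q)
    (hpair : ∀ x y, (f x * f y) ^ coxLabel edges9 x y = 1)
    (hsp : (f 1 * f 2 * f 3 * f 1 * f 4 * f 5 * f 1 * f 0 * f 6) ^ 10 = 1) :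
    (f 1 * f 4 * f 5 * f 1 * f 2 * f 3 * f 1 * f 0 * f 6) ^ 10 = 1 := by
  obtain ⟨φ, hφ⟩ := exists_hom extraWords9 f hpair (by
    rw [prodW_powWord]
    simpa [prodW, genOf, letters9, spiderU, mul_assoc] using hsp)
  have h := congrArg φ swap_spider
  rw [prodW_powWord, map_pow, map_one] at h
  simpa [prodW, g9, presGen, genOf, letters9, swapU, hφ, mul_assoc] using h

end CfsgLib.SpiderRel
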