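import Cfsg.Agent.Lib.SpiderRel.NineCore

/-!
The nine node group: the interchange of two arms and the centre.
-/

set_option autoImplicit false

namespace CfsgLib.SpiderRel

open CfsgLib.CosetEnum Cfsg.Spor

seal powWord

/-- the spider word with the first two arms interchanged -/
def swapU : List ℕ := [1, 4, 5, 1, 2, 3, 1, 0, 6]

theorem even_eq_one {w : List ℕ} (hw : (w.all fun g => Nat.blt g certI.K) = true)
    (h : allUp (wordFix certI w) 15 0 = true) (h9 : ∀ g ∈ w, g < 9) (ho : w.length % 2 = 0) :
    prodW g9 w = 1 := by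
  by_contra hh
  have e := eq_of_core (mem_core hw h) wOne_mem hh wOne_ne
  have h1 := sgn9_word h9
  have h2 := sgn9_word (u := powWord coxU 9) (by decide +kernel)
  rw [e, wOne] at h1
  rw [h2, show (powWord coxU 9).length = 63 by decide +kernel,
    Even.neg_one_pow (Nat.even_iff.2 ho)] at h1
  exact absurd h1 (by decide)

set_option maxHeartbeats 4000000 in
-- the kernel runs through 28160 points
theorem swap_spider : prodW g9 (powWord swapU 10) = 1 :=
  even_eq_one (by decide +kernel) (by decide +kernel) (by decide +kernel) (by decide +kernel)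

/-- the interchange of the first two arms -/
def thIdx : List ℕ := [0, 1, 4, 5, 2, 3, 6, 8, 7]

theorem thIdx_lt (x : Fin 9) : thIdx.getD x 0 < 9 := by
  revert x; decide

/-- the interchange as a map of nodes -/
def thLetter (x : Fin 9) : Fin 9 := ⟨thIdx.getD x 0, thIdx_lt x⟩

theorem g9_eq (x : Fin 9) : g9 x = PresentedGroup.of x := by fin_cases x <;> rfl

theorem thLabel : ∀ x y, coxLabel edges9 (thLetter x) (thLetter y) = coxLabel edges9 x y := by decide

theorem exists_theta : ∃ φ : P9 →* P9, ∀ x, φ (PresentedGroup.of x) = PresentedGroup.of (thLetter x) := by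
  refine exists_hom extraWords9 _ (fun x y => ?_) ?_
  · rw [← thLabel]
    exact of_pair (nodes9 _) (nodes9 _)
  · have h := swap_spider
    rw [prodW_powWord] at h ⊢
    simpa [prodW, genOf, letters9, spiderU, swapU, g9, presGen, thLetter, thIdx] using h

/-- the interchange as an endomorphism -/
noncomputable def theta : P9 →* P9 := exists_theta.choose

theorem theta_g9 {g : ℕ} (hg : g < 9) : theta (g9 g) = g9 (thIdx.getD g 0) := by
  have h : g9 g = PresentedGroup.of (⟨g, hg⟩ : Fin 9) := g9_eq ⟨g, hg⟩
  rw [h]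
  exact (exists_theta.choose_spec _).trans (g9_eq (thLetter ⟨g, hg⟩)).symm

theorem theta_word {u : List ℕ} (hu : ∀ g ∈ u, g < 9) :
    theta (prodW g9 u) = prodW g9 (u.map fun g => thIdx.getD g 0) := by
  induction u with
  | nil => simp
  | cons g u ih =>
    rw [List.forall_mem_cons] at hu
    rw [List.map_cons, prodW_cons, prodW_cons, map_mul, ih hu.2, theta_g9 hu.1]

theorem theta_surj : Function.Surjective theta := by
  rw [← MonoidHom.range_eq_top, eq_top_iff, ← setupI.gen_top, Subgroup.closure_le]
  rintro y ⟨g, hg, rfl⟩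
  have hK : certI.K = 9 := rfl
  rw [hK] at hg
  have : ∀ j < 9, ∃ i < 9, thIdx.getD i 0 = j := by decide
  obtain ⟨i, hi, rfl⟩ := this g hg
  exact ⟨g9 i, theta_g9 hi⟩

/-- `(a b₂ b₁ b₃ c₂ c₁ d₂)⁹` -/
noncomputable def wTwo : P9 := theta wOne

theorem wOne_central (g : P9) : g * wOne = wOne * g := core_central wOne_mem g

theorem wTwo_central (g : P9) : g * wTwo = wTwo * g := by
  obtain ⟨h, rfl⟩ := theta_surj g
  rw [wTwo, ← map_mul, ← map_mul, wOne_central]

theorem wOne_sq : wOne * wOne = 1 := core_sq wOne_mem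

theorem wTwo_sq : wTwo * wTwo = 1 := by rw [wTwo, ← map_mul, wOne_sq, map_one]

/-- the group of the two central elements -/
noncomputable def Zw : Subgroup P9 := Subgroup.closure {wOne, wTwo}

theorem Zw_central {z : P9} (hz : z ∈ Zw) (g : P9) : g * z = z * g := by
  induction hz using Subgroup.closure_induction with
  | mem y hy =>
    rcases hy with rfl | rfl
    · exact wOne_central g
    · exact wTwo_central g
  | one => simp
  | mul x y _ _ hx hy => rw [← mul_assoc, hx, mul_assoc, hy, ← mul_assoc]
  | inv x _ hx => exact ((show Commute g x from hx).inv_right).eq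

instance Zw_normal : Zw.Normal :=
  ⟨fun z hz g => by rw [Zw_central hz g, mul_inv_cancel_right]; exact hz⟩

theorem mem_Zw {z : P9} (hz : z ∈ Zw) : z = 1 ∨ z = wOne ∨ z = wTwo ∨ z = wOne * wTwo := by
  have hc : wTwo * wOne = wOne * wTwo := wOne_central wTwo
  have h1 : ∀ x, wOne * (wOne * x) = x := fun x => by rw [← mul_assoc, wOne_sq, one_mul]
  have h2 : ∀ x, wTwo * (wTwo * x) = x := fun x => by rw [← mul_assoc, wTwo_sq, one_mul]
  have h3 : ∀ x, wTwo * (wOne * x) = wOne * (wTwo * x) := fun x => by
    rw [← mul_assoc, hc, mul_assoc]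
  induction hz using Subgroup.closure_induction with
  | mem y hy => rcases hy with rfl | rfl <;> simp
  | one => simp
  | mul x y _ _ hx hy =>
    rcases hx with rfl | rfl | rfl | rfl <;> rcases hy with rfl | rfl | rfl | rfl <;>
      simp [mul_assoc, h1, h2, h3, hc, wOne_sq, wTwo_sq]
  | inv x _ hx =>
    have e1 : wOne⁻¹ = wOne := inv_eq_of_mul_eq_one_right wOne_sq
    have e2 : wTwo⁻¹ = wTwo := inv_eq_of_mul_eq_one_right wTwo_sq
    rcases hx with rfl | rfl | rfl | rfl <;> simp [e1, e2, hc]

/-- the inverse numbering -/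
def psiIdx : List ℕ := [8, 5, 4, 1, 2, 3, 7, 0, 6]

/-- the inverse map of the nodes -/
def psiLetter : Fi22.Gen → Fin 9
  | .a => 8 | .b => 5 | .c => 4 | .d => 1 | .e => 2 | .f => 3 | .g => 7 | .h => 0 | .i => 6

theorem psiLabel : ∀ x ∈ Fi22Pres.letters, ∀ y ∈ Fi22Pres.letters,
    coxLabel edges9 (psiLetter x) (psiLetter y) = coxLabel Fi22.edges x y := by decide

theorem psi_pi : ∀ x, psiLetter (piLetter x) = x := by decide

set_option maxHeartbeats 4000000 in
-- the kernel runs through 28160 points
theorem ker_toFi22_le : toFi22.ker ≤ Zw := by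
  let f : Fi22.Gen → P9 ⧸ Zw := fun x => QuotientGroup.mk' Zw (PresentedGroup.of (psiLetter x))
  have hsq : ∀ x, f x * f x = 1 := fun x => by
    simp only [f, ← map_mul, of_sq (nodes9 _), map_one]
  have hw : ∀ u : List ℕ, (u.all fun g => Nat.blt g 9) = true →
      prodW (genOf Fi22Pres.letters f) u =
        QuotientGroup.mk' Zw (prodW g9 (u.map fun g => psiIdx.getD g 0)) := by
    intro u hu
    induction u with
    | nil => simp
    | cons g u ih =>
      simp only [List.all_cons, Bool.and_eq_true, Nat.blt_eq] at hu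
      rw [List.map_cons, prodW_cons, prodW_cons, map_mul, ih hu.2]
      congr 1
      have := hu.1
      interval_cases g <;> rfl
  have hrel : ∀ r ∈ coxRelators Fi22.edges ∪ {r | r ∈ Fi22.extra}, FreeGroup.lift f r = 1 := by
    rintro r (⟨x, -, y, -, rfl⟩ | hr)
    · simp only [map_pow, map_mul, FreeGroup.lift_apply_of, f]
      rw [← map_mul, ← map_pow, ← psiLabel x (Fi22Pres.mem_letters x) y (Fi22Pres.mem_letters y),
        of_pair (nodes9 _) (nodes9 _), map_one]
    · obtain ⟨k, hk, rfl⟩ := List.getElem_of_mem (Set.mem_ofPred_eq ▸ hr : r ∈ Fi22.extra)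
      have hlen := Fi22Pres.extraWords.length_eq
      have h2 := List.forall₂_iff_get.mp Fi22Pres.extraWords |>.2 k hk (by omega)
      simp only [List.get_eq_getElem] at h2
      rw [h2 _ f hsq]
      have hk3 : k < 3 := by simpa [Fi22.extra] using hk
      interval_cases k
      · change prodW (genOf Fi22Pres.letters f) (powWord [3, 2, 1, 3, 4, 5, 3, 7, 8] 10) = 1
        rw [hw _ (by decide +kernel), show (powWord [3, 2, 1, 3, 4, 5, 3, 7, 8] 10).map
          (fun g => psiIdx.getD g 0) = powWord swapU 10 by decide +kernel, swap_spider, map_one]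
      · change prodW (genOf Fi22Pres.letters f) (powWord [0, 1, 2, 3, 4, 5, 7] 9) = 1
        rw [hw _ (by decide +kernel), show (powWord [0, 1, 2, 3, 4, 5, 7] 9).map
          (fun g => psiIdx.getD g 0) =
            (powWord [7, 3, 2, 1, 4, 5, 0] 9).map (fun g => thIdx.getD g 0) by decide +kernel,
          ← theta_word (by decide +kernel),
          eq_wOne (by decide +kernel) (by decide +kernel) (by decide +kernel) (by decide +kernel)]
        exact (QuotientGroup.eq_one_iff _).2 (Subgroup.subset_closure (Or.inr rfl))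
      · change prodW (genOf Fi22Pres.letters f) (powWord [1, 2, 3, 4, 5, 6, 7] 9) = 1
        rw [hw _ (by decide +kernel),
          eq_wOne (by decide +kernel) (by decide +kernel) (by decide +kernel) (by decide +kernel)]
        exact (QuotientGroup.eq_one_iff _).2 (Subgroup.subset_closure (Or.inl rfl))
  have hcomp : (PresentedGroup.toGroup hrel).comp toFi22 = QuotientGroup.mk' Zw := by
    refine PresentedGroup.ext fun x => ?_
    rw [MonoidHom.comp_apply, toFi22_of, PresentedGroup.toGroup.of hrel]
    simp only [f, psi_pi]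
  intro x hx
  rw [← QuotientGroup.eq_one_iff (N := Zw)]
  show QuotientGroup.mk' Zw x = 1
  rw [← hcomp, MonoidHom.comp_apply, MonoidHom.mem_ker.1 hx, map_one]

theorem center_Fi22 {z : Fi22} (hz : ∀ x, z * x = x * z) : z = 1 := by
  haveI := Fi22Pres.isFi22.1
  by_contra hne
  rcases (inferInstance : (Subgroup.center Fi22).Normal).eq_bot_or_eq_top with h | h
  · have : z ∈ Subgroup.center Fi22 := Subgroup.mem_center_iff.2 fun x => (hz x).symm
    rw [h] at this
    exact hne (Subgroup.mem_bot.1 this)
  · have hcomm : ∀ x y : Fi22, x * y = y * x := fun x y =>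
      (Subgroup.mem_center_iff.1 (h ▸ Subgroup.mem_top x) y).symm
    have hn : Fi22Pres.subH.Normal := ⟨fun n hn g => by rw [hcomm g n, mul_inv_cancel_right]; exact hn⟩
    have h2 := Fi22Pres.index_subH
    rcases hn.eq_bot_or_eq_top with e | e <;> rw [e] at h2
    · rw [Subgroup.index_bot, Fi22Pres.card_faithful.1] at h2
      omega
    · rw [Subgroup.index_top] at h2
      omega

/-- In an image of the nine node group, an element centralizing it comes from the two central
elements. -/
theorem range_central {Q : Type*} [Group Q] (q : P9 →* Q) {c : Q} (hc : c ∈ q.range)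
    (hcomm : ∀ x, q x * c = c * q x) : ∃ z ∈ Zw, q z = c := by
  obtain ⟨k, rfl⟩ := hc
  haveI := Fi22Pres.isFi22.1
  have hn : (q.ker.map toFi22).Normal := Subgroup.Normal.map inferInstance _ toFi22_surj
  rcases hn.eq_bot_or_eq_top with h | h
  · refine ⟨k, ker_toFi22_le (MonoidHom.mem_ker.2 (center_Fi22 fun x => ?_)), rfl⟩
    obtain ⟨y, rfl⟩ := toFi22_surj x
    have hk : (k * y) * (y * k)⁻¹ ∈ q.ker := by
      rw [MonoidHom.mem_ker, map_mul, map_inv, map_mul, map_mul, hcomm y, mul_inv_cancel]
    have h1 : toFi22 ((k * y) * (y * k)⁻¹) ∈ q.ker.map toFi22 := Subgroup.mem_map_of_mem _ hk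
    rw [h, Subgroup.mem_bot, map_mul, map_inv, mul_inv_eq_one, map_mul, map_mul] at h1
    exact h1
  · obtain ⟨r, hr, e⟩ := (h ▸ Subgroup.mem_top (toFi22 k) : toFi22 k ∈ q.ker.map toFi22)
    refine ⟨r⁻¹ * k, ker_toFi22_le (MonoidHom.mem_ker.2 ?_), ?_⟩
    · rw [map_mul, map_inv, e, inv_mul_cancel]
    · rw [map_mul, map_inv, MonoidHom.mem_ker.1 hr, inv_one, one_mul]

end CfsgLib.SpiderRel
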