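import Cfsg.Agent.Lib.SpiderRel.Defs
import Cfsg.Agent.Lib.SpiderRel.CheckS1
import Cfsg.Agent.Lib.SpiderRel.CheckS2
import Cfsg.Agent.Lib.SpiderRel.CheckS3
import Cfsg.Agent.Lib.SpiderRel.CheckS4
import Cfsg.Agent.Lib.SpiderRel.CheckS5
import Cfsg.Agent.Lib.SpiderRel.CheckS6
import Cfsg.Agent.Lib.SpiderRel.CheckS7
import Cfsg.Agent.Lib.SpiderRel.CheckS8
import Cfsg.Agent.Lib.SpiderRel.CheckI
import Cfsg.Agent.Lib.Fi22Pres.Main

/-!
The nine node group: the quotient Fi22 and the kernel of the action on 28160 points.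
-/

set_option autoImplicit false

namespace CfsgLib.SpiderRel

open CfsgLib.CosetEnum Cfsg.Spor

seal powWord

/-- the nine node group -/
abbrev P9 : Type := CoxPresented (Fin 9) edges9 spider9

/-- its numbered generators -/
def g9 : ℕ → P9 := presGen letters9 edges9 spider9

theorem g9_sq (g : ℕ) : g9 g * g9 g = 1 := by
  unfold g9 presGen genOf
  split
  · exact of_sq (nodes9 _)
  · simp

theorem presI : presOK letters9 edges9 [powWord spiderU 10] certI = true := by decide +kernel

/-- the eight node subgroup -/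
def H8 : Subgroup P9 := Subgroup.closure {y | ∃ w ∈ certI.subs, prodW g9 w = y}

theorem modelI : Model certI H8 g9 :=
  presModel nodes9 extraWords9 presI _ fun w hw => Subgroup.subset_closure ⟨w, hw, rfl⟩

theorem exists_actionI : ∃ ρ : P9 →* Equiv.Perm (Fin certI.N),
    ∀ g < certI.K, ρ (g9 g) = letterPerm certI_complete certI_action g :=
  exists_presAction mem_letters9 (by decide) extraWords9 presI certI_complete certI_action

/-- the action on 28160 cosets -/
noncomputable def rho9 : P9 →* Equiv.Perm (Fin certI.N) := exists_actionI.choose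

theorem setupI : Setup certI H8 g9 rho9 where
  complete := certI_complete
  action := certI_action
  model := modelI
  gen_top := presGen_top mem_letters9 rfl
  rho_gen := exists_actionI.choose_spec
  H_eq := rfl

theorem H8_card : Finite H8 ∧ Nat.card H8 ≤ 9170703360 := by
  have hr : ∀ r ∈ certI.rels, prodW g9 r = 1 := modelI.rel
  have h1 := block_card_le g9_sq hr certS1_complete
    (show blockOK certS1 certI.rels 0 1 = true by decide +kernel) (subs_closure_bot rfl)
  have h2 := block_step g9_sq hr certS2_complete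
    (show blockOK certS2 certI.rels 0 2 = true by decide +kernel)
    (d := 0) (k := 1) (by decide +kernel) (by norm_num) h1
  have h3 := block_step g9_sq hr certS3_complete
    (show blockOK certS3 certI.rels 0 3 = true by decide +kernel)
    (d := 0) (k := 2) (by decide +kernel) (by norm_num) h2
  have h4 := block_step g9_sq hr certS4_complete
    (show blockOK certS4 certI.rels 0 4 = true by decide +kernel)
    (d := 0) (k := 3) (by decide +kernel) (by norm_num) h3
  have h5 := block_step g9_sq hr certS5_complete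
    (show blockOK certS5 certI.rels 0 5 = true by decide +kernel)
    (d := 0) (k := 4) (by decide +kernel) (by norm_num) h4
  have h6 := block_step g9_sq hr certS6_complete
    (show blockOK certS6 certI.rels 0 6 = true by decide +kernel)
    (d := 0) (k := 5) (by decide +kernel) (by norm_num) h5
  have h7 := block_step g9_sq hr certS7_complete
    (show blockOK certS7 certI.rels 0 7 = true by decide +kernel)
    (d := 0) (k := 6) (by decide +kernel) (by norm_num) h6
  have h8 := block_step g9_sq hr certS8_complete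
    (show blockOK certS8 certI.rels 0 8 = true by decide +kernel)
    (d := 0) (k := 7) (by decide +kernel) (by norm_num) h7
  rw [genSub_blockGen_zero] at h8
  have e : H8 = genSub g9 8 := subs_closure_genSub (by decide +kernel)
  rw [e]
  exact h8

/-- the numbers of the images in Fi22 -/
def piIdx : List ℕ := [7, 3, 4, 5, 2, 1, 8, 6, 0]

/-- the images in Fi22 -/
def piLetter (x : Fin 9) : Fi22.Gen := Fi22Pres.letters.getD (piIdx.getD x 0) .a

theorem piLetter_gen (x : Fin 9) :
    (PresentedGroup.of (piLetter x) : Fi22) = Fi22Pres.gen (piIdx.getD x 0) := by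
  fin_cases x <;> rfl

theorem piLabel : ∀ x y, coxLabel edges9 x y = coxLabel Fi22.edges (piLetter x) (piLetter y) := by
  decide

theorem piSpider_fix :
    allUp (wordFix Fi22Pres.certA (powWord [3, 4, 5, 3, 2, 1, 3, 7, 8] 10)) 12 0 = true := by
  decide +kernel

theorem exists_pi : ∃ φ : P9 →* Fi22, ∀ x, φ (PresentedGroup.of x) = PresentedGroup.of (piLetter x) := by
  refine exists_hom extraWords9 _ (fun x y => ?_) ?_
  · rw [piLabel]
    exact of_pair (Fi22Pres.nodes _) (Fi22Pres.nodes _)
  · rw [prodW_powWord]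
    have h := Fi22Pres.setupA.pow_eq_one Fi22Pres.card_faithful.2 (by decide +kernel) piSpider_fix
      (by decide +kernel)
    simpa [prodW, genOf, letters9, spiderU, piLetter_gen, piIdx] using h

/-- the map to Fi22 -/
noncomputable def toFi22 : P9 →* Fi22 := exists_pi.choose

theorem toFi22_of (x : Fin 9) : toFi22 (PresentedGroup.of x) = PresentedGroup.of (piLetter x) :=
  exists_pi.choose_spec x

theorem toFi22_g9 {g : ℕ} (hg : g < 9) : toFi22 (g9 g) = Fi22Pres.gen (piIdx.getD g 0) := by
  have h : g9 g = PresentedGroup.of (⟨g, hg⟩ : Fin 9) := by interval_cases g <;> rfl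
  rw [h, toFi22_of, piLetter_gen]

theorem toFi22_surj : Function.Surjective toFi22 := by
  rw [← MonoidHom.range_eq_top, eq_top_iff, ← Fi22Pres.setupA.gen_top, Subgroup.closure_le]
  rintro y ⟨g, hg, rfl⟩
  have hK : Fi22Pres.certA.K = 9 := rfl
  rw [hK] at hg
  have : ∀ j < 9, ∃ i < 9, piIdx.getD i 0 = j := by decide
  obtain ⟨i, hi, rfl⟩ := this g hg
  exact ⟨g9 i, toFi22_g9 hi⟩

theorem map_H8 : H8.map toFi22 = Fi22Pres.subH := by
  rw [show H8 = genSub g9 8 from subs_closure_genSub (by decide +kernel), genSub,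
    MonoidHom.map_closure, Fi22Pres.subH, genSub]
  congr 1
  ext y
  simp only [Set.mem_image, Set.mem_ofPred_eq]
  constructor
  · rintro ⟨_, ⟨g, hg, rfl⟩, rfl⟩
    have : ∀ i < 8, ∃ j < 8, piIdx.getD i 0 = j + 1 := by decide
    obtain ⟨j, hj, e⟩ := this g hg
    exact ⟨j, hj, by rw [toFi22_g9 (by omega), e, blockGen, if_pos hj]⟩
  · rintro ⟨j, hj, rfl⟩
    have : ∀ j < 8, ∃ i < 8, piIdx.getD i 0 = j + 1 := by decide
    obtain ⟨i, hi, e⟩ := this j hj
    exact ⟨_, ⟨i, hi, rfl⟩, by rw [toFi22_g9 (by omega), e, blockGen, if_pos hj]⟩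

theorem ker_le_two : Finite ↥(H8 ⊓ toFi22.ker) ∧ Nat.card ↥(H8 ⊓ toFi22.ker) ≤ 2 := by
  obtain ⟨hf, hc⟩ := H8_card
  refine ⟨Finite.of_injective (Subgroup.inclusion inf_le_left) (Subgroup.inclusion_injective _), ?_⟩
  set f := toFi22.comp H8.subtype
  have hr : f.range = Fi22Pres.subH := by
    rw [← map_H8, MonoidHom.range_comp, Subgroup.range_subtype]
  have hs : Nat.card Fi22Pres.subH = 4585351680 := by
    have h := Fi22Pres.subH.card_mul_index
    rw [Fi22Pres.index_subH, Fi22Pres.card_faithful.1] at h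
    refine Nat.eq_of_mul_eq_mul_right (show 0 < 14080 by norm_num) (h.trans ?_)
    norm_num
  have h1 := f.ker.card_mul_index
  rw [Subgroup.index_ker, hr, hs] at h1
  have h2 : Nat.card ↥(H8 ⊓ toFi22.ker) ≤ Nat.card f.ker :=
    Nat.card_le_card_of_injective (fun x => (⟨⟨x.1, x.2.1⟩, MonoidHom.mem_ker.2 (MonoidHom.mem_ker.1 x.2.2)⟩ : f.ker))
      fun x y h => Subtype.ext (congrArg (fun z : f.ker => ((z : H8) : P9)) h)
  omega

theorem core_le : rho9.ker ≤ H8 ⊓ toFi22.ker := by
  have hle : rho9.ker ≤ H8 := fun x hx => (setupI.mem_iff x).2 (by rw [MonoidHom.mem_ker.1 hx]; rfl)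
  refine le_inf hle ?_
  have hn : (rho9.ker.map toFi22).Normal := Subgroup.Normal.map inferInstance _ toFi22_surj
  haveI := Fi22Pres.isFi22.1
  rcases hn.eq_bot_or_eq_top with h | h
  · exact (Subgroup.map_eq_bot_iff _).1 h
  · exfalso
    have h1 := Subgroup.map_mono (f := toFi22) hle
    rw [map_H8, h, top_le_iff] at h1
    have h2 := Fi22Pres.index_subH
    rw [h1, Subgroup.index_top] at h2
    omega

theorem eq_of_core {x y : P9} (hx : x ∈ rho9.ker) (hy : y ∈ rho9.ker) (hx1 : x ≠ 1) (hy1 : y ≠ 1) :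
    x = y := by
  obtain ⟨hf, hc⟩ := ker_le_two
  by_contra hne
  have h3 : Nat.card (Fin 3) ≤ Nat.card ↥(H8 ⊓ toFi22.ker) := by
    refine Nat.card_le_card_of_injective
      ![⟨1, one_mem _⟩, ⟨x, core_le hx⟩, ⟨y, core_le hy⟩] ?_
    intro i j h
    fin_cases i <;> fin_cases j <;>
      simp_all [Subtype.ext_iff, eq_comm]
  rw [Nat.card_fin] at h3
  omega

theorem core_central {x : P9} (hx : x ∈ rho9.ker) (g : P9) : g * x = x * g := by
  rcases eq_or_ne x 1 with rfl | hx1
  · simp
  · have h := eq_of_core ((MonoidHom.normal_ker rho9).conj_mem x hx g) hx (by simpa using hx1) hx1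
    rwa [mul_inv_eq_iff_eq_mul] at h

theorem core_sq {x : P9} (hx : x ∈ rho9.ker) : x * x = 1 := by
  by_contra h
  rcases eq_or_ne x 1 with rfl | hx1
  · simp at h
  · have := eq_of_core (mul_mem hx hx) hx h hx1
    simp at this
    exact hx1 this

theorem exists_sign : ∃ φ : P9 →* ℤˣ, ∀ x, φ (PresentedGroup.of x) = -1 := by
  refine exists_hom extraWords9 (fun _ => -1) (fun x y => by simp) ?_
  rw [prodW_powWord, show (10 : ℕ) = 2 * 5 from rfl, pow_mul, Int.units_sq, one_pow]

/-- the sign -/
noncomputable def sgn9 : P9 →* ℤˣ := exists_sign.choose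

theorem sgn9_word {u : List ℕ} (hu : ∀ g ∈ u, g < 9) : sgn9 (prodW g9 u) = (-1) ^ u.length := by
  induction u with
  | nil => simp
  | cons g u ih =>
    rw [List.forall_mem_cons] at hu
    have h : g9 g = PresentedGroup.of (⟨g, hu.1⟩ : Fin 9) := by
      have := hu.1
      interval_cases g <;> rfl
    rw [prodW_cons, map_mul, ih hu.2, h, List.length_cons, pow_succ']
    exact congrArg (· * _) (exists_sign.choose_spec _)

theorem mem_core {w : List ℕ} (hw : (w.all fun g => Nat.blt g certI.K) = true)
    (h : allUp (wordFix certI w) 15 0 = true) : prodW g9 w ∈ rho9.ker := by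
  simp only [List.all_eq_true, Nat.blt_eq] at hw
  refine MonoidHom.mem_ker.2 (Equiv.ext fun x => Fin.ext ?_)
  rw [setupI.rho_prodW hw]
  have hN : certI.N = 28160 := rfl
  have h' := allUp_spec h x (Nat.zero_le _) (by have := x.2; omega)
  simpa [wordFix, show Nat.blt x certI.N = true by rw [Nat.blt_eq]; exact x.2] using h'

theorem odd_ne_one {w : List ℕ} (hw : ∀ g ∈ w, g < 9) (ho : w.length % 2 = 1) : prodW g9 w ≠ 1 := by
  intro h
  have h1 := sgn9_word hw
  rw [h, map_one, Odd.neg_one_pow (Nat.odd_iff.2 ho)] at h1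
  exact absurd h1 (by decide)

/-- `(a b₁ b₂ b₃ c₁ c₂ d₁)⁹` -/
noncomputable def wOne : P9 := prodW g9 (powWord coxU 9)

theorem wOne_mem : wOne ∈ rho9.ker := mem_core (by decide +kernel) (by decide +kernel)

theorem wOne_ne : wOne ≠ 1 := odd_ne_one (by decide +kernel) (by decide +kernel)

theorem eq_wOne {w : List ℕ} (hw : (w.all fun g => Nat.blt g certI.K) = true)
    (h : allUp (wordFix certI w) 15 0 = true) (h9 : ∀ g ∈ w, g < 9) (ho : w.length % 2 = 1) :
    prodW g9 w = wOne :=
  eq_of_core (mem_core hw h) wOne_mem (odd_ne_one h9 ho) wOne_ne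

end CfsgLib.SpiderRel
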